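import Cfsg.Agent.Lib.LBalance.Balance

/-!
Intrinsic 2-components: a subgroup `K` with a unique involution `z` which is a 2-component of `C(z)`.
Vocabulary for calculating in `C(z)` modulo its odd core.
-/

set_option autoImplicit false
set_option linter.style.haveILetI false
set_option linter.unusedSectionVars false

namespace Cfsg.Agent.Intrinsic

open Subgroup Cfsg Cfsg.Agent.Components Cfsg.Agent.BpBalance
open scoped commutatorElement

universe u

variable {G : Type u} [Group G]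

/-- The centralizer of an element. -/
abbrev cz (z : G) : Subgroup G := centralizer ({z} : Set G)

/-- Conjugate of a subgroup. -/
abbrev cj (g : G) (K : Subgroup G) : Subgroup G := K.map (MulAut.conj g).toMonoidHom

/-- The odd core of `C(z)` inside `G`. -/
abbrev core (z : G) : Subgroup G := (oddCore ↥(cz z)).map (cz z).subtype

theorem cz_iff {z x : G} : x ∈ cz z ↔ x * z = z * x := mem_centralizer_singleton_iff

theorem mem_cj {g x : G} {K : Subgroup G} : x ∈ cj g K ↔ g⁻¹ * x * g ∈ K := by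
  constructor
  · rintro ⟨y, hy, rfl⟩
    simpa [mul_assoc] using hy
  · intro h
    exact ⟨_, h, by simp [mul_assoc]⟩

theorem conj_mem_cj {g x : G} {K : Subgroup G} (h : x ∈ K) : g * x * g⁻¹ ∈ cj g K :=
  ⟨x, h, by simp⟩

theorem cj_cj (g h : G) (K : Subgroup G) : cj g (cj h K) = cj (g * h) K := by
  ext x
  simp [mem_cj, mul_assoc]

theorem cj_one (K : Subgroup G) : cj (1 : G) K = K := by
  ext x
  simp [mem_cj]

theorem cj_of_mem {g : G} {K : Subgroup G} (h : g ∈ normalizer (K : Set G)) : cj g K = K := by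
  ext x
  rw [mem_cj]
  exact (mem_normalizer_iff''.1 h x).symm

theorem mem_normalizer_of_cj {g : G} {K : Subgroup G} (h : cj g K = K) :
    g ∈ normalizer (K : Set G) := by
  refine mem_normalizer_iff''.2 fun x => ?_
  conv_lhs => rw [← h]
  exact mem_cj

theorem cj_eq_iff {g : G} {K : Subgroup G} : cj g K = K ↔ g ∈ normalizer (K : Set G) :=
  ⟨mem_normalizer_of_cj, cj_of_mem⟩

theorem cj_injective (g : G) {K L : Subgroup G} (h : cj g K = cj g L) : K = L := by
  have := congrArg (cj g⁻¹) h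
  rwa [cj_cj, cj_cj, inv_mul_cancel, cj_one, cj_one] at this

theorem cz_conj (g z : G) : (cz z).map (MulAut.conj g).toMonoidHom = cz (g * z * g⁻¹) := by
  ext x
  rw [show (cz z).map (MulAut.conj g).toMonoidHom = cj g (cz z) from rfl, mem_cj, cz_iff, cz_iff]
  constructor <;> intro h
  · calc x * (g * z * g⁻¹) = g * (g⁻¹ * x * g * z) * g⁻¹ := by group
      _ = g * (z * (g⁻¹ * x * g)) * g⁻¹ := by rw [h]
      _ = _ := by group
  · calc g⁻¹ * x * g * z = g⁻¹ * (x * (g * z * g⁻¹)) * g := by group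
      _ = g⁻¹ * ((g * z * g⁻¹) * x) * g := by rw [h]
      _ = _ := by group

/-- The elements of `C(z)` centralizing the image of `K` in `C(z)/O(C(z))`. -/
def ctr (z : G) (K : Subgroup G) : Subgroup G :=
  haveI := FittingCores.pPrimeCore_normal (G := ↥(cz z)) 2
  ((centralizer ((K.subgroupOf (cz z)).map (QuotientGroup.mk' (oddCore ↥(cz z))) :
      Set (↥(cz z) ⧸ oddCore ↥(cz z)))).comap (QuotientGroup.mk' (oddCore ↥(cz z)))).map (cz z).subtype

/-- An intrinsic 2-component: `z` is the only involution of `K` and `K` is a 2-component of `C(z)`, its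
central quotient by the core having order `m / 2`. -/
structure Intr (m : ℕ) (K : Subgroup G) (z : G) : Prop where
  ord : orderOf z = 2
  mem : z ∈ K
  uniq : ∀ t ∈ K, orderOf t = 2 → t = z
  comp : PCIn 2 K (cz z)
  centre : Nat.card (center (↥K ⧸ oddCore ↥K)) = 2
  size : Nat.card (↥K ⧸ oddCore ↥K) = m
  four : 4 ∣ Nat.card K

/-- A 2-element. -/
def IsTwo (x : G) : Prop := ∃ k : ℕ, x ^ 2 ^ k = 1

theorem IsTwo.of_group {S : Subgroup G} (hS : IsPGroup 2 S) {x : G} (h : x ∈ S) : IsTwo x := by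
  obtain ⟨k, hk⟩ := hS ⟨x, h⟩
  exact ⟨k, congrArg Subtype.val hk⟩

theorem IsTwo.of_orderOf {x : G} (h : orderOf x = 2) : IsTwo x :=
  ⟨1, by rw [pow_one, ← h, pow_orderOf_eq_one]⟩

theorem IsTwo.conj {x : G} (h : IsTwo x) (g : G) : IsTwo (g * x * g⁻¹) := by
  obtain ⟨k, hk⟩ := h
  exact ⟨k, by rw [conj_pow, hk, mul_one, mul_inv_cancel]⟩

theorem sq_eq_one {z : G} (h : orderOf z = 2) : z * z = 1 := by
  rw [← pow_two, ← h, pow_orderOf_eq_one]

theorem inv_eq_self {z : G} (h : orderOf z = 2) : z⁻¹ = z := inv_eq_of_mul_eq_one_right (sq_eq_one h)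

theorem ne_one {z : G} (h : orderOf z = 2) : z ≠ 1 := by
  rintro rfl
  simp at h

/-- Elements of a 2-group whose square is one. -/
theorem eq_of_sq {S : Subgroup G} {z x : G} (hu : ∀ t ∈ S, orderOf t = 2 → t = z) (hx : x ∈ S)
    (h2 : x * x = 1) : x = 1 ∨ x = z := by
  by_cases h : x = 1
  · exact Or.inl h
  · exact Or.inr (hu x hx (orderOf_eq_prime (by rw [pow_two, h2]) h))

section Finite

variable [Finite G]

theorem core_coprime (z : G) : (Nat.card (core z)).Coprime 2 :=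
  (FittingCores.pPrimeCore_coprime (G := ↥(cz z)) 2).coprime_dvd_left
    (by rw [card_map_of_injective (cz z).subtype_injective])

theorem exact_one {S : Subgroup G} (hS : IsPGroup 2 S) {z x : G} (hxS : x ∈ S) (hx : x ∈ core z) :
    x = 1 :=
  Cfsg.Agent.PBasic.eq_one_of_isPGroup_of_coprime hS hxS
    (Cfsg.Agent.PBasic.coprime_orderOf_of_mem (core_coprime z) hx)

theorem core_normalized (z : G) : cz z ≤ normalizer (core z : Set G) := by
  haveI := FittingCores.pPrimeCore_normal (G := ↥(cz z)) 2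
  refine (normal_subgroupOf_iff_le_normalizer (map_subtype_le _)).1 ?_
  rw [subgroupOf, comap_map_eq_self_of_injective (cz z).subtype_injective]
  infer_instance

/-- The quotient map of `C(z)` by its odd core. -/
noncomputable abbrev qz (z : G) :
    haveI := FittingCores.pPrimeCore_normal (G := ↥(cz z)) 2
    ↥(cz z) →* ↥(cz z) ⧸ oddCore ↥(cz z) :=
  haveI := FittingCores.pPrimeCore_normal (G := ↥(cz z)) 2
  QuotientGroup.mk' (oddCore ↥(cz z))

noncomputable instance core_normal_instance (H : Subgroup G) : (oddCore ↥H).Normal :=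
  FittingCores.pPrimeCore_normal 2

/-- The image of `K` in `C(z)/O(C(z))`. -/
noncomputable abbrev bar (z : G) (K : Subgroup G) : Subgroup (↥(cz z) ⧸ oddCore ↥(cz z)) :=
  (K.subgroupOf (cz z)).map (qz z)

theorem qz_eq_one {z : G} {x : ↥(cz z)} : qz z x = 1 ↔ (x : G) ∈ core z := by
  rw [qz, QuotientGroup.mk'_apply, QuotientGroup.eq_one_iff]
  exact ⟨fun h => ⟨x, h, rfl⟩, fun ⟨y, hy, e⟩ => (cz z).subtype_injective e ▸ hy⟩

theorem ctr_le (z : G) (K : Subgroup G) : ctr z K ≤ cz z := map_subtype_le _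

theorem mem_ctr {z x : G} {K : Subgroup G} :
    x ∈ ctr z K ↔ ∃ h : x ∈ cz z, qz z ⟨x, h⟩ ∈ centralizer (bar z K : Set _) := by
  constructor
  · rintro ⟨y, hy, rfl⟩
    exact ⟨y.2, hy⟩
  · rintro ⟨h, hc⟩
    exact ⟨⟨x, h⟩, hc, rfl⟩

theorem mem_ctr_comm {z x : G} {K : Subgroup G} (hK : K ≤ cz z) :
    x ∈ ctr z K ↔ x ∈ cz z ∧ ∀ k ∈ K, x * k * x⁻¹ * k⁻¹ ∈ core z := by
  rw [mem_ctr]
  constructor
  · rintro ⟨h, hc⟩
    refine ⟨h, fun k hk => ?_⟩
    have h1 : qz z ⟨k, hK hk⟩ ∈ bar z K := mem_map_of_mem _ hk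
    have h2 := mem_centralizer_iff.1 hc _ h1
    refine (qz_eq_one (x := ⟨_, mul_mem (mul_mem (mul_mem h (hK hk)) (inv_mem h)) (inv_mem (hK hk))⟩)).1 ?_
    show qz z (⟨x, h⟩ * ⟨k, hK hk⟩ * ⟨x, h⟩⁻¹ * ⟨k, hK hk⟩⁻¹) = 1
    simp only [map_mul, map_inv]
    rw [← h2]
    group
  · rintro ⟨h, hc⟩
    refine ⟨h, mem_centralizer_iff.2 ?_⟩
    rintro _ ⟨⟨k, hk'⟩, hk, rfl⟩
    have h2 := (qz_eq_one (x := (⟨x, h⟩ * ⟨k, hk'⟩ * ⟨x, h⟩⁻¹ * ⟨k, hk'⟩⁻¹ : ↥(cz z)))).2
      (hc k (mem_subgroupOf.1 hk))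
    simp only [map_mul, map_inv, mul_inv_eq_iff_eq_mul, one_mul] at h2
    exact h2.symm

theorem isTwo_mem {S : Subgroup G} (hS : IsPGroup 2 S) {z x y : G}
    (hx : x ∈ S) (hy : y ∈ S) (h : x * y⁻¹ ∈ core z) : x = y :=
  mul_inv_eq_one.1 (exact_one hS (S.mul_mem hx (S.inv_mem hy)) h)

namespace Intr

variable {m : ℕ} {K : Subgroup G} {z : G}

theorem le (hK : Intr m K z) : K ≤ cz z := hK.comp.le

theorem sq (hK : Intr m K z) : z * z = 1 := sq_eq_one hK.ord

theorem inv_self (hK : Intr m K z) : z⁻¹ = z := inv_eq_self hK.ord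

theorem ne_one' (hK : Intr m K z) : z ≠ 1 := ne_one hK.ord

theorem comm (hK : Intr m K z) {x : G} (hx : x ∈ K) : x * z = z * x := cz_iff.1 (hK.le hx)

theorem sq_cases (hK : Intr m K z) {x : G} (hx : x ∈ K) (h2 : x * x = 1) : x = 1 ∨ x = z :=
  eq_of_sq hK.uniq hx h2

theorem pcomp (hK : Intr m K z) : IsPComponent 2 (K.subgroupOf (cz z)) :=
  haveI : Fact (Nat.Prime 2) := ⟨Nat.prime_two⟩
  hK.comp.toComp

theorem bar_comp (hK : Intr m K z) : IsComponent (bar z K) := hK.pcomp.2.1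

theorem bar_equiv (hK : Intr m K z) : Nonempty ((↥K ⧸ oddCore ↥K) ≃* ↥(bar z K)) := by
  haveI : Fact (Nat.Prime 2) := ⟨Nat.prime_two⟩
  let e := subgroupOfEquivOfLe hK.le
  let r := (qz z).subgroupMap (K.subgroupOf (cz z))
  have hr : Function.Surjective r := (qz z).subgroupMap_surjective _
  have hker : r.ker = oddCore ↥(K.subgroupOf (cz z)) := by
    rw [show oddCore ↥(K.subgroupOf (cz z)) = _ from pPrimeCore_eq_subgroupOf hK.pcomp.1]
    ext x
    rw [MonoidHom.mem_ker, Subtype.ext_iff, MonoidHom.subgroupMap_apply_coe, mem_subgroupOf]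
    exact QuotientGroup.eq_one_iff (x : ↥(cz z))
  exact ⟨((QuotientGroup.congr _ _ e (FittingCores.pPrimeCore_map_equiv 2 e)).symm.trans
    ((QuotientGroup.quotientMulEquivOfEq hker.symm).trans
      (QuotientGroup.quotientKerEquivOfSurjective (φ := r) hr)))⟩

theorem bar_card (hK : Intr m K z) : Nat.card ↥(bar z K) = m := by
  obtain ⟨e⟩ := hK.bar_equiv
  rw [← Nat.card_congr e.toEquiv, hK.size]

theorem bar_centre_card (hK : Intr m K z) : Nat.card (center ↥(bar z K)) = 2 := by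
  obtain ⟨e⟩ := hK.bar_equiv
  rw [← center_map_equiv e, card_map_of_injective (f := e.toMonoidHom) e.injective, hK.centre]

theorem z_mem_cz (hK : Intr m K z) : z ∈ cz z := cz_iff.2 rfl

theorem qz_ne_one (hK : Intr m K z) {x : G} (hx : x ∈ cz z) (ht : IsTwo x) (h1 : x ≠ 1) :
    qz z ⟨x, hx⟩ ≠ 1 := by
  intro h
  obtain ⟨k, hk⟩ := ht
  refine h1 (orderOf_eq_one_iff.1 ?_)
  exact Nat.eq_one_of_dvd_coprimes
    ((Cfsg.Agent.PBasic.coprime_orderOf_of_mem (core_coprime z) ((qz_eq_one (x := ⟨x, hx⟩)).1 h)).pow_right k)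
    dvd_rfl (orderOf_dvd_of_pow_eq_one hk)

/-- The centre of the image of `K` consists of `1` and the image of `z`. -/
theorem bar_centre (hK : Intr m K z) {x : ↥(cz z) ⧸ oddCore ↥(cz z)} (hx : x ∈ bar z K)
    (hc : x ∈ centralizer (bar z K : Set _)) : x = 1 ∨ x = qz z ⟨z, hK.z_mem_cz⟩ := by
  have hcard := hK.bar_centre_card
  set zc : ↥(bar z K) := ⟨qz z ⟨z, hK.z_mem_cz⟩, mem_map_of_mem _ (show (⟨z, hK.z_mem_cz⟩ : ↥(cz z)) ∈
    K.subgroupOf (cz z) from hK.mem)⟩
  have hz : zc ∈ center ↥(bar z K) := by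
    refine mem_center_iff.2 ?_
    rintro ⟨_, k, hk, rfl⟩
    refine Subtype.ext ?_
    show qz z k * qz z _ = qz z _ * qz z k
    rw [← map_mul, ← map_mul]
    exact congrArg _ (Subtype.ext (hK.comm (mem_subgroupOf.1 hk)))
  have hz1 : zc ≠ 1 := fun h =>
    hK.qz_ne_one hK.z_mem_cz (IsTwo.of_orderOf hK.ord) hK.ne_one' (congrArg Subtype.val h)
  have hxc : (⟨x, hx⟩ : ↥(bar z K)) ∈ center ↥(bar z K) :=
    mem_center_iff.2 fun y => Subtype.ext (mem_centralizer_iff.1 hc y y.2)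
  obtain ⟨a, b, hab, hall⟩ := Nat.card_eq_two_iff.1 hcard
  have h3 : ∀ w : center ↥(bar z K), w = a ∨ w = b := fun w => by
    have : w ∈ ({a, b} : Set _) := hall ▸ Set.mem_univ w
    simpa using this
  rcases h3 ⟨_, hxc⟩ with h | h <;> rcases h3 1 with h' | h' <;> rcases h3 ⟨zc, hz⟩ with h'' | h''
  all_goals first
    | exact absurd (congrArg Subtype.val (h''.trans h'.symm)) hz1
    | exact Or.inl (congrArg Subtype.val (congrArg Subtype.val (h.trans h'.symm)))
    | exact Or.inr (congrArg Subtype.val (congrArg Subtype.val (h.trans h''.symm)))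

/-- 2-elements of `C(z)` mapped into the image of `K` lie in `K`. -/
theorem mem_of_bar (hK : Intr m K z) {x : G} (hx : x ∈ cz z) (ht : IsTwo x)
    (h : qz z ⟨x, hx⟩ ∈ bar z K) : x ∈ K := by
  haveI : Fact (Nat.Prime 2) := ⟨Nat.prime_two⟩
  obtain ⟨k, hk⟩ := ht
  have := pComponent_eq_pGen hK.pcomp
  have h1 : (⟨x, hx⟩ : ↥(cz z)) ∈ K.subgroupOf (cz z) := by
    rw [← this]
    exact mem_pGen (show (⟨x, hx⟩ : ↥(cz z)) ∈ _ from h) (k := k) (Subtype.ext hk)
  exact h1

theorem conj (hK : Intr m K z) (g : G) : Intr m (cj g K) (g * z * g⁻¹) := by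
  haveI : Fact (Nat.Prime 2) := ⟨Nat.prime_two⟩
  let e : ↥K ≃* ↥(cj g K) := equivMapOfInjective K _ (MulAut.conj g).injective
  let eq := QuotientGroup.congr (oddCore ↥K) (oddCore ↥(cj g K)) e (FittingCores.pPrimeCore_map_equiv 2 e)
  refine ⟨?_, conj_mem_cj hK.mem, fun t ht ho => ?_, ?_, ?_, ?_, ?_⟩
  · rw [← hK.ord]
    exact orderOf_injective (MulAut.conj g).toMonoidHom (MulAut.conj g).injective z
  · obtain ⟨y, hy, rfl⟩ := ht
    rw [orderOf_injective (MulAut.conj g).toMonoidHom (MulAut.conj g).injective] at ho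
    rw [hK.uniq y hy ho]
    simp
  · rw [← cz_conj]
    exact hK.comp.map _ fun h => hK.comp.ne_bot ((Subgroup.map_eq_bot_iff_of_injective K (MulAut.conj g).injective).1 h)
  · rw [← center_map_equiv eq, card_map_of_injective (f := eq.toMonoidHom) eq.injective, hK.centre]
  · rw [← Nat.card_congr eq.toEquiv, hK.size]
  · rw [card_map_of_injective (f := (MulAut.conj g).toMonoidHom) (MulAut.conj g).injective]
    exact hK.four

theorem conj' (hK : Intr m K z) {g : G} (hg : g ∈ cz z) : Intr m (cj g K) z := by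
  have := hK.conj g
  rwa [cz_iff.1 hg, mul_inv_cancel_right] at this

theorem cz_of_normalizer (hK : Intr m K z) {g : G} (hg : g ∈ normalizer (K : Set G)) :
    g * z = z * g := by
  have h := hK.uniq (g * z * g⁻¹) ((mem_normalizer_iff.1 hg z).1 hK.mem)
    ((orderOf_injective (MulAut.conj g).toMonoidHom (MulAut.conj g).injective z).trans hK.ord)
  exact mul_inv_eq_iff_eq_mul.1 h

variable {K' : Subgroup G}

theorem bar_ne (hK : Intr m K z) (hK' : Intr m K' z) (hne : K ≠ K') : bar z K ≠ bar z K' := by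
  intro h
  haveI : Fact (Nat.Prime 2) := ⟨Nat.prime_two⟩
  apply hne
  have := congrArg (Subgroup.map (cz z).subtype) (pComponent_unique hK.pcomp hK'.pcomp h)
  rwa [map_subgroupOf_eq_of_le hK.le, map_subgroupOf_eq_of_le hK'.le] at this

theorem bar_commute (hK : Intr m K z) (hK' : Intr m K' z) (hne : K ≠ K') :
    bar z K' ≤ centralizer (bar z K : Set _) :=
  commutator_eq_bot_iff_le_centralizer.1 (components_commute hK'.bar_comp hK.bar_comp
    (hK'.bar_ne hK (Ne.symm hne)))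

/-- Different components centralize one another modulo the core. -/
theorem ctr_other (hK : Intr m K z) (hK' : Intr m K' z) (hne : K ≠ K') : K' ≤ ctr z K := fun x hx =>
  mem_ctr.2 ⟨hK'.le hx, hK.bar_commute hK' hne (mem_map_of_mem _ (show (⟨x, hK'.le hx⟩ : ↥(cz z)) ∈
    K'.subgroupOf (cz z) from hx))⟩

/-- A 2-element of `K` centralizing `K` modulo the core is `1` or `z`. -/
theorem ctr_self (hK : Intr m K z) {x : G} (hx : x ∈ K) (ht : IsTwo x) (hc : x ∈ ctr z K) :
    x = 1 ∨ x = z := by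
  obtain ⟨h, hc⟩ := mem_ctr.1 hc
  rcases hK.bar_centre (mem_map_of_mem _ (show (⟨x, h⟩ : ↥(cz z)) ∈ K.subgroupOf (cz z) from hx)) hc
    with e | e
  · refine Or.inl ?_
    by_contra h1
    exact hK.qz_ne_one h ht h1 e
  · refine Or.inr ?_
    by_contra h1
    refine hK.qz_ne_one (mul_mem h hK.z_mem_cz) ?_ (fun h2 => h1 ?_)
      (show qz z (⟨x, h⟩ * ⟨z, hK.z_mem_cz⟩) = 1 by
        rw [map_mul, e, ← map_mul, show (⟨z, hK.z_mem_cz⟩ : ↥(cz z)) * ⟨z, hK.z_mem_cz⟩ = 1 from
          Subtype.ext hK.sq, map_one])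
    · obtain ⟨k, hk⟩ := ht
      refine ⟨k + 1, ?_⟩
      rw [(show Commute x z from hK.comm hx).mul_pow, pow_succ, pow_mul, hk, one_pow, one_mul, mul_comm,
        pow_mul, pow_two, hK.sq, one_pow]
    · rw [eq_inv_of_mul_eq_one_left h2, hK.inv_self]

theorem mem_inter (hK : Intr m K z) (hK' : Intr m K' z) (hne : K ≠ K') {x : G} (hx : x ∈ K)
    (hx' : x ∈ K') (ht : IsTwo x) : x = 1 ∨ x = z :=
  hK.ctr_self hx ht (hK.ctr_other hK' hne hx')

/-- Elements of different components in one 2-group commute. -/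
theorem commute (hK : Intr m K z) (hK' : Intr m K' z) (hne : K ≠ K') {S : Subgroup G}
    (hS : IsPGroup 2 S) {a b : G} (ha : a ∈ K) (hb : b ∈ K') (haS : a ∈ S) (hbS : b ∈ S) :
    a * b = b * a := by
  have h := ((mem_ctr_comm hK.le).1 (hK.ctr_other hK' hne hb)).2 a ha
  have h1 := exact_one hS (S.mul_mem (S.mul_mem (S.mul_mem hbS haS) (S.inv_mem hbS)) (S.inv_mem haS)) h
  rw [mul_inv_eq_one, mul_inv_eq_iff_eq_mul] at h1
  exact h1.symm

/-- Centralizing modulo the core and lying in a common 2-group means commuting. -/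
theorem commute_ctr (hK : Intr m K z) {S : Subgroup G} (hS : IsPGroup 2 S) {a b : G} (ha : a ∈ K)
    (hb : b ∈ ctr z K) (haS : a ∈ S) (hbS : b ∈ S) : a * b = b * a := by
  have h := ((mem_ctr_comm hK.le).1 hb).2 a ha
  have h1 := exact_one hS (S.mul_mem (S.mul_mem (S.mul_mem hbS haS) (S.inv_mem hbS)) (S.inv_mem haS)) h
  rw [mul_inv_eq_one, mul_inv_eq_iff_eq_mul] at h1
  exact h1.symm

end Intr

end Finite

end Cfsg.Agent.Intrinsic
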