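import Cfsg.Agent.Lib.Intrinsic.Basic

/-!
Components of `C(z) ∩ C(t)` lying over a subgroup of `C(z)/O(C(z))` centralizing `t`, and their action on
an intrinsic 2-component of `C(t)`.
-/

set_option autoImplicit false
set_option linter.style.haveILetI false
set_option linter.unusedSectionVars false

namespace Cfsg.Agent.Intrinsic

open Subgroup Cfsg Cfsg.Agent.Components Cfsg.Agent.BpBalance
open scoped commutatorElement

universe u

variable {G : Type u} [Group G] [Finite G]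

/-- A preimage of a 2-element can be replaced by a 2-element. -/
theorem exists_two_preimage {A B : Type*} [Group A] [Finite A] [Group B] (f : A →* B) {d : B} {k : ℕ}
    (hd : d ^ 2 ^ k = 1) (x : A) (hx : f x = d) :
    ∃ y ∈ zpowers x, f y = d ∧ ∃ j : ℕ, y ^ 2 ^ j = 1 := by
  have hx0 : orderOf x ≠ 0 := (orderOf_pos x).ne'
  set a := (orderOf x).factorization 2
  set b := orderOf x / 2 ^ a
  have hb : 2 ^ a * b = orderOf x := Nat.ordProj_mul_ordCompl_eq_self _ _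
  obtain ⟨u, v, huv⟩ : IsCoprime (b : ℤ) (((2 : ℕ) ^ k : ℕ) : ℤ) :=
    Nat.isCoprime_iff_coprime.2 ((Nat.coprime_ordCompl Nat.prime_two hx0).symm.pow_right k)
  refine ⟨x ^ (u * b), ⟨_, rfl⟩, ?_, a, ?_⟩
  · rw [map_zpow, hx]
    have h1 : u * (b : ℤ) = 1 - v * (((2 : ℕ) ^ k : ℕ) : ℤ) := by linarith
    rw [h1, zpow_sub, zpow_one, mul_comm v, zpow_mul, zpow_natCast, hd, one_zpow, inv_one, mul_one]
  · rw [← zpow_natCast, ← zpow_mul,
      show u * (b : ℤ) * ((2 ^ a : ℕ) : ℤ) = ((2 ^ a * b : ℕ) : ℤ) * u by push_cast; ring, hb, zpow_mul,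
      zpow_natCast, pow_orderOf_eq_one, one_zpow]

/-- `D` is a component of `C(z) ∩ C(t)` over `Δ`. -/
structure Cov (z t : G) (D : Subgroup G) (Δ : Subgroup (↥(cz z) ⧸ oddCore ↥(cz z))) : Prop where
  comp : PCIn 2 D (cz z ⊓ cz t)
  maps : ∀ (x : G) (hx : x ∈ cz z), x ∈ D → qz z ⟨x, hx⟩ ∈ Δ
  contains : ∀ (x : G) (hx : x ∈ cz z), x ∈ cz t → IsTwo x → qz z ⟨x, hx⟩ ∈ Δ → x ∈ D
  surj : ∀ d ∈ Δ, ∃ x ∈ D, ∃ hx : x ∈ cz z, qz z ⟨x, hx⟩ = d
  odd : ∀ N : Subgroup ↥Δ, N.Normal → (Nat.card N).Coprime 2 → N = ⊥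

theorem exists_cov {z t : G} (ht : t ∈ cz z) (htwo : IsTwo t)
    (Δ : Subgroup (↥(cz z) ⧸ oddCore ↥(cz z))) (hc : Δ ≤ centralizer ({qz z ⟨t, ht⟩} : Set _))
    (hs : (Δ.subgroupOf (centralizer ({qz z ⟨t, ht⟩} : Set _))).IsSubnormal)
    (hqs : IsQuasisimple ↥Δ) (hgen : Δ ≤ pGen 2 Δ)
    (hodd : ∀ N : Subgroup ↥Δ, N.Normal → (Nat.card N).Coprime 2 → N = ⊥) :
    ∃ D, Cov z t D Δ := by
  haveI : Fact (Nat.Prime 2) := ⟨Nat.prime_two⟩
  obtain ⟨kt, hkt⟩ := htwo
  set H := cz z ⊓ cz t with hH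
  set ι : ↥H →* ↥(cz z) := inclusion inf_le_left
  set f := (qz z).comp ι with hf
  set C := centralizer ({qz z ⟨t, ht⟩} : Set (↥(cz z) ⧸ oddCore ↥(cz z))) with hC
  have hfC : ∀ x : H, f x ∈ C := fun x => by
    rw [hC, mem_centralizer_singleton_iff, hf, MonoidHom.comp_apply, ← map_mul, ← map_mul]
    exact congrArg _ (Subtype.ext (cz_iff.1 x.2.2))
  let f' : ↥H →* ↥C := f.codRestrict C hfC
  set M : Subgroup ↥H := Δ.comap f with hM
  have hMs : M.IsSubnormal := hs.comap f'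
  set D' := pGen 2 M with hD'
  have hD's : D'.IsSubnormal := IsSubnormal.step _ M (pGen_le M) hMs
    ((normal_subgroupOf_iff_le_normalizer (pGen_le M)).2 (le_normalizer.trans (normalizer_le_pGen M)))
  -- lifting
  have hlift : ∀ d ∈ Δ, ∃ x : H, f x = d := by
    intro d hd
    set P := zpowers (⟨t, ht⟩ : ↥(cz z))
    have hP : IsPGroup 2 ↥P := fun ⟨x, hx⟩ => by
      obtain ⟨i, rfl⟩ := hx
      refine ⟨kt, Subtype.ext (Subtype.ext ?_)⟩
      show (t ^ i) ^ 2 ^ kt = 1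
      rw [← zpow_natCast, ← zpow_mul, mul_comm, zpow_mul, zpow_natCast, hkt, one_zpow]
    have hdn : d ∈ normalizer ((P.map (qz z) : Subgroup _) : Set _) := by
      rw [MonoidHom.map_zpowers]
      refine centralizer_le_normalizer _ ?_
      rw [mem_centralizer_iff]
      rintro _ ⟨i, rfl⟩
      exact ((show Commute d (qz z ⟨t, ht⟩) from mem_centralizer_singleton_iff.1 (hc hd)).zpow_right i).symm
    rw [← map_normalizer_eq (FittingCores.pPrimeCore_coprime (G := ↥(cz z)) 2) hP] at hdn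
    obtain ⟨g, hg, rfl⟩ := hdn
    have hg1 : g * ⟨t, ht⟩ * g⁻¹ ∈ P := (mem_normalizer_iff.1 hg _).1 (mem_zpowers _)
    have he : g * ⟨t, ht⟩ * g⁻¹ * (⟨t, ht⟩ : ↥(cz z))⁻¹ = 1 := by
      refine Cfsg.Agent.PBasic.eq_one_of_isPGroup_of_coprime hP (mul_mem hg1 (inv_mem (mem_zpowers _)))
        (Cfsg.Agent.PBasic.coprime_orderOf_of_mem (FittingCores.pPrimeCore_coprime (G := ↥(cz z)) 2)
          ((QuotientGroup.eq_one_iff _).1 ?_))
      show qz z (g * ⟨t, ht⟩ * g⁻¹ * (⟨t, ht⟩ : ↥(cz z))⁻¹) = 1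
      rw [map_mul, map_mul, map_mul, map_inv, map_inv, mem_centralizer_singleton_iff.1 (hc hd)]
      group
    refine ⟨⟨g, g.2, cz_iff.2 ?_⟩, rfl⟩
    exact congrArg Subtype.val (mul_inv_eq_iff_eq_mul.1 (mul_inv_eq_one.1 he))
  have hsurj : ∀ d ∈ Δ, ∃ x ∈ D', f x = d := by
    intro d hd
    have h1 := hgen hd
    induction h1 using closure_induction with
    | mem e he =>
      obtain ⟨he, k, hk⟩ := he
      obtain ⟨x, hx⟩ := hlift e he
      obtain ⟨y, _, hy, j, hj⟩ := exists_two_preimage f hk x hx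
      exact ⟨y, mem_pGen (show y ∈ M by rw [hM, mem_comap, hy]; exact he) (k := j) hj, hy⟩
    | one => exact ⟨1, one_mem _, map_one f⟩
    | mul a b ha hb iha ihb =>
      obtain ⟨x, hx, rfl⟩ := iha (pGen_le _ ha)
      obtain ⟨y, hy, rfl⟩ := ihb (pGen_le _ hb)
      exact ⟨x * y, mul_mem hx hy, map_mul f x y⟩
    | inv a ha iha =>
      obtain ⟨x, hx, rfl⟩ := iha (pGen_le _ ha)
      exact ⟨x⁻¹, inv_mem hx, map_inv f x⟩
  -- the quotient
  let r : ↥D' →* ↥Δ := (f.comp D'.subtype).codRestrict Δ fun x => pGen_le M x.2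
  have hr : Function.Surjective r := fun ⟨d, hd⟩ => by
    obtain ⟨x, hx, he⟩ := hsurj d hd
    exact ⟨⟨x, hx⟩, Subtype.ext he⟩
  have hker : r.ker = oddCore ↥D' := by
    refine le_antisymm (FittingCores.le_pPrimeCore inferInstance ?_) ?_
    · let j : ↥D' →* G := H.subtype.comp D'.subtype
      have hj : Function.Injective j := H.subtype_injective.comp D'.subtype_injective
      rw [Nat.card_congr (equivMapOfInjective r.ker j hj).toEquiv]
      refine (core_coprime z).coprime_dvd_left (card_dvd_of_le ?_)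
      rintro _ ⟨x, hx, rfl⟩
      exact (qz_eq_one (x := ι (x : H))).1 (congrArg Subtype.val hx)
    · intro x hx
      rw [MonoidHom.mem_ker]
      have := hodd ((oddCore ↥D').map r) (Normal.map inferInstance r hr)
        ((FittingCores.pPrimeCore_coprime (G := ↥D') 2).coprime_dvd_left (card_map_dvd _ _))
      rw [← mem_bot, ← this]
      exact mem_map_of_mem r hx
  have hDqs : IsQuasisimple (↥D' ⧸ oddCore ↥D') := (quasisimple_congr
    ((QuotientGroup.quotientMulEquivOfEq hker.symm).trans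
      (QuotientGroup.quotientKerEquivOfSurjective (φ := r) hr))).2 hqs
  refine ⟨D'.map H.subtype, ⟨map_subtype_le _, ?_, ?_, ?_⟩, ?_, ?_, ?_, hodd⟩
  · rw [subgroupOf, comap_map_eq_self_of_injective H.subtype_injective]
    exact hD's
  · conv_lhs => rw [hD', ← pGen_pGen]
    exact map_pGen_le _ _
  · exact quotient_congr (equivMapOfInjective D' H.subtype H.subtype_injective) hDqs
  · rintro x hx ⟨y, hy, rfl⟩
    exact (pGen_le M hy : y ∈ M)
  · intro x hx hxt ⟨k, hk⟩ hd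
    exact ⟨⟨x, hx, hxt⟩, mem_pGen (show (⟨x, hx, hxt⟩ : ↥H) ∈ M from hd) (k := k) (Subtype.ext hk), rfl⟩
  · intro d hd
    obtain ⟨x, hx, rfl⟩ := hsurj d hd
    exact ⟨x, mem_map_of_mem _ hx, x.2.1, rfl⟩

/-- The odd core of `C(t)`-balance: a component of `C(z) ∩ C(t)` lies in the 2-layer of `C(t)`. -/
theorem le_pLayer {z t : G} {D : Subgroup G} (hD : PCIn 2 D (cz z ⊓ cz t)) (hz : z ∈ cz t) (hz2 : IsTwo z) :
    D.subgroupOf (cz t) ≤ pLayer 2 ↥(cz t) := by
  haveI : Fact (Nat.Prime 2) := ⟨Nat.prime_two⟩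
  obtain ⟨k, hk⟩ := hz2
  set R := zpowers (⟨z, hz⟩ : ↥(cz t))
  have hR : IsPGroup 2 ↥R := fun ⟨x, hx⟩ => by
    obtain ⟨i, rfl⟩ := hx
    refine ⟨k, Subtype.ext (Subtype.ext ?_)⟩
    show (z ^ i) ^ 2 ^ k = 1
    rw [← zpow_natCast, ← zpow_mul, mul_comm, zpow_mul, zpow_natCast, hk, one_zpow]
  have h1 := hD.comap_inj (cz t).subtype (cz t).subtype_injective
    (by rw [range_subtype]; exact hD.le.trans inf_le_right)
  have he : (cz z ⊓ cz t).comap (cz t).subtype = centralizer (R : Set ↥(cz t)) := by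
    ext x
    rw [mem_comap, mem_inf, mem_centralizer_iff]
    constructor
    · rintro ⟨hx, -⟩ _ ⟨i, rfl⟩
      exact Subtype.ext (((show Commute (x : G) z from cz_iff.1 hx).zpow_right i).symm.eq)
    · exact fun h => ⟨cz_iff.2 (congrArg Subtype.val (h _ (mem_zpowers _))).symm, x.2⟩
  rw [he] at h1
  refine le_trans (le_trans ?_ (map_mono (le_sSup h1.toComp))) (LBalance.pLayer_centralizer_le_two hR)
  rw [map_subgroupOf_eq_of_le h1.le]
  rfl

section Act

variable {m : ℕ} {K : Subgroup G} {z t : G}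

theorem le_normalizer_comp {D : Subgroup G} (hD : PCIn 2 D (cz z ⊓ cz t)) (hz : z ∈ cz t) (hz2 : IsTwo z)
    (hK : Intr m K t) : D ≤ normalizer (K : Set G) := by
  haveI : Fact (Nat.Prime 2) := ⟨Nat.prime_two⟩
  intro x hx
  have hxt : x ∈ cz t := (hD.le hx).2
  have h := pLayer_le_normalizer hK.pcomp (le_pLayer hD hz hz2 (show (⟨x, hxt⟩ : ↥(cz t)) ∈ _ from hx))
  refine mem_normalizer_iff.2 fun k => ⟨fun hk => ?_, fun hk => ?_⟩
  · exact (mem_normalizer_iff.1 h ⟨k, hK.le hk⟩).1 hk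
  · have hkt : k ∈ cz t := by
      have := mul_mem (mul_mem (inv_mem hxt) (hK.le hk)) hxt
      simpa [mul_assoc] using this
    exact (mem_normalizer_iff.1 h ⟨k, hkt⟩).2 hk

/-- The alternatives for the action of a covering component on an intrinsic component. -/
theorem Cov.cases {D : Subgroup G} {Δ : Subgroup (↥(cz z) ⧸ oddCore ↥(cz z))} (hD : Cov z t D Δ)
    (hqs : IsQuasisimple ↥Δ) (hz : z ∈ cz t) (hz2 : IsTwo z) (hK : Intr m K t)
    (hm : (center ↥Δ).index * 2 = m) :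
    D ≤ ctr t K ∨
      ((∀ (x : G) (hx : x ∈ cz z) (hxD : x ∈ D),
          (⟨qz z ⟨x, hx⟩, hD.maps x hx hxD⟩ : ↥Δ) ∈ center ↥Δ → x ∈ ctr t K) ∧
        ∀ k ∈ K, ∃ d ∈ D, k⁻¹ * d ∈ ctr t K) := by
  classical
  haveI : Fact (Nat.Prime 2) := ⟨Nat.prime_two⟩
  set E := bar t K with hE
  have hlay : ∀ (x : G) (hx : x ∈ cz t), x ∈ D → qz t ⟨x, hx⟩ ∈ E ⊔ centralizer (E : Set _) := by
    intro x hx hxD
    have h1 : qz t ⟨x, hx⟩ ∈ layer (↥(cz t) ⧸ oddCore ↥(cz t)) := by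
      rw [← map_pLayer]
      exact mem_map_of_mem _ (le_pLayer hD.comp hz hz2 (show (⟨x, hx⟩ : ↥(cz t)) ∈ _ from hxD))
    refine (layer_le_iff.2 fun L hL => ?_) h1
    rcases eq_or_ne L E with e | e
    · exact e.le.trans le_sup_left
    · exact (commutator_eq_bot_iff_le_centralizer.1 (components_commute hL hK.bar_comp e)).trans le_sup_right
  have hEN : E ⊔ centralizer (E : Set _) ≤ normalizer (E : Set _) :=
    sup_le le_normalizer (centralizer_le_normalizer _)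
  let g : ↥D →* ↥(normalizer (E : Set (↥(cz t) ⧸ oddCore ↥(cz t)))) :=
    ((qz t).comp (inclusion (hD.comp.le.trans inf_le_right))).codRestrict _ fun x => hEN (hlay x _ x.2)
  let f : ↥D →* MulAut ↥E := (E.normalizerMonoidHom).comp g
  have hfE : f.range ≤ (MulAut.conj (G := ↥E)).range := by
    rintro _ ⟨x, rfl⟩
    have hn : E ≤ normalizer ((centralizer (E : Set (↥(cz t) ⧸ oddCore ↥(cz t))) : Subgroup _) : Set _) :=
      le_normalizer.trans (normalizer_le_normalizer_centralizer E)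
    obtain ⟨c, hc, e, he, hec'⟩ := (Cfsg.Agent.SolvBasic.mem_sup_iff_of_le_normalizer hn).1
      (by rw [sup_comm]; exact hlay x (hD.comp.le x.2).2 x.2)
    have hec : e * c = qz t ⟨(x : G), (hD.comp.le x.2).2⟩ := by
      exact (mem_centralizer_iff.1 hc e he).trans hec'.symm
    refine ⟨⟨e, he⟩, MulEquiv.ext fun y => Subtype.ext ?_⟩
    show e * (y : _) * e⁻¹ = qz t ⟨(x : G), (hD.comp.le x.2).2⟩ * y * (qz t ⟨(x : G), (hD.comp.le x.2).2⟩)⁻¹
    rw [← hec, mul_inv_rev,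
      show e * c * (y : _) * (c⁻¹ * e⁻¹) = e * (c * y * c⁻¹) * e⁻¹ by group,
      (mul_inv_eq_iff_eq_mul.2 (mem_centralizer_iff.1 hc _ y.2).symm : c * (y : _) * c⁻¹ = y)]
  have hker : ∀ x : D, f x = 1 → (x : G) ∈ ctr t K := fun x hx => by
    have hxt : (x : G) ∈ cz t := (hD.comp.le x.2).2
    refine mem_ctr.2 ⟨hxt, mem_centralizer_iff.2 fun y hy => ?_⟩
    have h1 := congrArg Subtype.val (DFunLike.congr_fun hx ⟨y, hy⟩)
    exact (mul_inv_eq_iff_eq_mul.1 h1).symm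
  let r : ↥D →* ↥Δ := ((qz z).comp (inclusion (hD.comp.le.trans inf_le_left))).codRestrict Δ
    fun x => hD.maps x _ x.2
  have hr : Function.Surjective r := fun ⟨d, hd⟩ => by
    obtain ⟨x, hx, hxz, he⟩ := hD.surj d hd
    exact ⟨⟨x, hx⟩, Subtype.ext he⟩
  set W := f.ker
  haveI hW : (W.map r).Normal := Normal.map inferInstance r hr
  have hgenD : pGen 2 (⊤ : Subgroup ↥D) = ⊤ := by
    rw [eq_top_iff]
    have := le_pGen_comap D.subtype D.subtype_injective (K := D) (by rw [range_subtype]) hD.comp.gen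
    rwa [show D.comap D.subtype = ⊤ from subgroupOf_self D] at this
  have hkr : (Nat.card r.ker).Coprime 2 := by
    rw [Nat.card_congr (equivMapOfInjective r.ker D.subtype D.subtype_injective).toEquiv]
    refine (core_coprime z).coprime_dvd_left (card_dvd_of_le ?_)
    rintro _ ⟨x, hx, rfl⟩
    exact (qz_eq_one (x := inclusion (hD.comp.le.trans inf_le_left) x)).1 (congrArg Subtype.val hx)
  rcases quasisimple_normal hqs (W.map r) with h | h
  · left
    have h1 : W ⊔ r.ker = ⊤ := by rw [← comap_map_eq, h, comap_top]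
    have h2 : pGen 2 (⊤ : Subgroup ↥D) ≤ W := pGen_le_of_normal le_top inferInstance (by
      rw [← h1, sup_comm, relIndex_sup_right]
      exact hkr.coprime_dvd_left (relIndex_dvd_card _ _))
    intro x hx
    exact hker ⟨x, hx⟩ (h2 (by rw [hgenD]; exact mem_top _))
  · right
    have hle : W ≤ (center ↥Δ).comap r := map_le_iff_le_comap.1 h
    have hi : ((center ↥Δ).comap r).index = (center ↥Δ).index := index_comap_of_surjective _ hr
    have hconj : Nat.card (MulAut.conj (G := ↥E)).range * 2 = m := by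
      rw [← hK.bar_card, ← Subgroup.index_ker, ← card_mul_index ((MulAut.conj (G := ↥E)).ker), mul_comm,
        show (MulAut.conj (G := ↥E)).ker = center ↥E from by
          ext x
          rw [MonoidHom.mem_ker, mem_center_iff]
          constructor
          · intro hx y
            have := DFunLike.congr_fun hx y
            exact (mul_inv_eq_iff_eq_mul.1 this).symm
          · intro hx
            exact MulEquiv.ext fun y => mul_inv_eq_iff_eq_mul.2 (hx y).symm,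
        hK.bar_centre_card]
    have hWi : W.index = Nat.card f.range := Subgroup.index_ker f
    have h1 : W.index ≤ ((center ↥Δ).comap r).index := by
      have := Subgroup.card_le_of_le hfE
      omega
    have hWeq : W = (center ↥Δ).comap r := by
      refine (eq_or_lt_of_le hle).resolve_right fun hlt => ?_
      exact absurd (index_strictAnti hlt) (not_lt.2 h1)
    refine ⟨fun x hx hxD hc => hker ⟨x, hxD⟩ (hWeq.ge (show (⟨x, hxD⟩ : ↥D) ∈ _ from hc)), fun k hk => ?_⟩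
    have hrange : f.range = (MulAut.conj (G := ↥E)).range := by
      refine eq_of_le_of_card_ge hfE ?_
      have h2 : W.index = (center ↥Δ).index := hWeq ▸ hi
      omega
    have hkt : k ∈ cz t := hK.le hk
    obtain ⟨x, hx⟩ := hrange.ge (MonoidHom.mem_range.2
      ⟨(⟨qz t ⟨k, hkt⟩, mem_map_of_mem _ hk⟩ : ↥E), rfl⟩)
    have hxt : (x : G) ∈ cz t := (hD.comp.le x.2).2
    refine ⟨x, x.2, mem_ctr.2 ⟨mul_mem (inv_mem hkt) hxt, mem_centralizer_iff.2 fun y hy => ?_⟩⟩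
    have hy' := congrArg Subtype.val (DFunLike.congr_fun hx (⟨y, hy⟩ : ↥E))
    have h1 : qz t ⟨x, hxt⟩ * y * (qz t ⟨x, hxt⟩)⁻¹ = qz t ⟨k, hkt⟩ * y * (qz t ⟨k, hkt⟩)⁻¹ := hy'
    show y * qz t (⟨k, hkt⟩⁻¹ * ⟨x, hxt⟩) = qz t (⟨k, hkt⟩⁻¹ * ⟨x, hxt⟩) * y
    rw [map_mul, map_inv]
    calc y * ((qz t ⟨k, hkt⟩)⁻¹ * qz t ⟨x, hxt⟩)
        = (qz t ⟨k, hkt⟩)⁻¹ * (qz t ⟨k, hkt⟩ * y * (qz t ⟨k, hkt⟩)⁻¹) * qz t ⟨x, hxt⟩ := by group
      _ = _ := by rw [← h1]; group

end Act

end Cfsg.Agent.Intrinsic
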