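import Cfsg.Agent.Lib.Intrinsic.ZStar

/-!
If the involution of one intrinsic 2-component normalizes the other component, the converse holds.
-/

set_option autoImplicit false
set_option linter.style.haveILetI false
set_option linter.unusedSectionVars false

namespace Cfsg.Agent.Intrinsic

open Subgroup Cfsg Cfsg.Agent.Components Cfsg.Agent.BpBalance

universe u

variable {G : Type u} [Group G] [Finite G] {m : ℕ}

theorem normalizer_symm {J K : Subgroup G} {a b : G} (hJ : Intr m J a) (hK : Intr m K b)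
    (hn : a ∈ normalizer (K : Set G)) : b ∈ normalizer (J : Set G) := by
  haveI : Fact (Nat.Prime 2) := ⟨Nat.prime_two⟩
  by_contra hb
  have hab : a * b = b * a := hK.cz_of_normalizer hn
  have haz : a ∈ cz b := cz_iff.2 hab
  have hbz : b ∈ cz a := cz_iff.2 hab.symm
  have hmove : cj b J ≠ J := fun h => hb (mem_normalizer_of_cj h)
  have hac : a ∉ ctr b K := fun h => hb (triv hK hJ h).1
  obtain ⟨D, Δ, hD, hqs, hm, -, -, hmem, -⟩ := exists_diag hJ hbz hK.sq hmove
  have hDc := diag_ctr hJ hK hD hqs hm hn hac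
  obtain ⟨S, hS, hbS⟩ := PTerm.exists_syl (zpowers_isTwo (IsTwo.of_orderOf hK.ord)) (zpowers_le.2 hbz)
  have hP := hS.inf_subnormal hJ.le hJ.comp.sub
  obtain ⟨e, ⟨heS, heJ⟩, hee⟩ := hJ.exists_four hP
  have hb' : b ∈ S := hbS (mem_zpowers b)
  set e' := b * e * b⁻¹ with he'
  have he'J : e' ∈ cj b J := conj_mem_cj heJ
  have he'S : e' ∈ S := mul_mem (mul_mem hb' heS) (inv_mem hb')
  have hcomm : e * e' = e' * e := hJ.commute (hJ.conj' hbz) (Ne.symm hmove) hS.pgroup heJ he'J heS he'S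
  have he'2 : e' * e' = a := by
    rw [he', show b * e * b⁻¹ * (b * e * b⁻¹) = b * (e * e) * b⁻¹ by group, hee, ← hab, mul_inv_cancel_right]
  have hea : e * a = a * e := hJ.comm heJ
  have he'a : e' * a = a * e' := by
    conv_lhs => rw [← he'2, ← mul_assoc]
    rw [he'2]
  obtain ⟨v, hv⟩ : ∃ v, v = e * e' := ⟨_, rfl⟩
  have hv2 : v * v = 1 := by
    rw [hv]
    calc e * e' * (e * e') = e * (e' * e) * e' := by group
      _ = e * (e * e') * e' := by rw [← hcomm]
      _ = e * e * (e' * e') := by group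
      _ = 1 := by rw [hee, he'2, hJ.sq]
  have hvi : v⁻¹ = v := inv_eq_of_mul_eq_one_right hv2
  have hbi : b⁻¹ = b := hK.inv_self
  have hbb : b * b = 1 := hK.sq
  have hai : a⁻¹ = a := hJ.inv_self
  have hva : v * a = a * v := by rw [hv, mul_assoc, he'a, ← mul_assoc, hea, mul_assoc]
  have hvb : v * b = b * v := by
    have h1 : b * v * b⁻¹ = v := by
      calc b * v * b⁻¹ = e' * (b * b * e * (b * b)⁻¹) := by rw [hv, he']; group
        _ = v := by rw [hbb, one_mul, inv_one, mul_one, hv, hcomm]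
    rw [mul_inv_eq_iff_eq_mul] at h1
    exact h1.symm
  have hvS : v ∈ S := hv ▸ mul_mem heS he'S
  have hvD : v ∈ D := by
    have := hmem e heJ (by rw [← he', ← hv]; exact IsTwo.of_group hS.pgroup hvS) (by rw [← he', ← hv]; exact hvb)
    rwa [← he', ← hv] at this
  have hvc : v ∈ ctr b K := hDc hvD
  have hvz : v ∈ cz b := cz_iff.2 hvb
  -- lift an element moving `a`
  obtain ⟨kb, hkb, hk⟩ := hK.zlemma hJ.sq hn hac
  obtain ⟨k, hkK, hkz, rfl⟩ := exists_of_bar hkb
  have haS : a ∈ S := by rw [← hee]; exact mul_mem heS heS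
  set W : Subgroup G := closure {a, b, v} with hW
  have hWS : W ≤ S := (closure_le _).2 (by
    rintro t (rfl | rfl | rfl)
    exacts [haS, hb', hvS])
  have hWz : W ≤ cz b := (closure_le _).2 (by
    rintro t (rfl | rfl | rfl)
    exacts [haz, hK.z_mem_cz, hvz])
  have haW : a ∈ W := subset_closure (by simp)
  have hbW : b ∈ W := subset_closure (by simp)
  have hvW : v ∈ W := subset_closure (by simp)
  have hqa : qt b (k * a * k⁻¹) = qt b (a * b) := by
    rw [qt_conj hkz haz, qt_mul haz hK.z_mem_cz]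
    have hq2 : qt b a * qt b a = 1 := by rw [← qt_mul haz haz, hJ.sq, qt_one]
    have e1 : qt b a * qt b k = qt b b * qt b k * qt b a := mul_inv_eq_iff_eq_mul.1 hk
    rw [mul_inv_eq_iff_eq_mul, mul_assoc, hK.qt_z_comm hkz, ← hK.qt_z_comm hkz, ← mul_assoc,
      ← hK.qt_z_comm haz, mul_assoc, e1, ← mul_assoc, ← mul_assoc, hK.qt_z_sq, one_mul]
  have hqb : qt b (k * b * k⁻¹) = qt b b := by rw [hK.comm hkK, mul_inv_cancel_right]
  have hqv : qt b (k * v * k⁻¹) = qt b v := by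
    rw [qt_conj hkz hvz, ← (mem_ctr_qt.1 hvc).2 _ (qt_mem_bar hkz hkK), mul_inv_cancel_right]
  obtain ⟨f, hfz, -, -, hf⟩ := exists_lift hkz {a, b, v} hS.pgroup hWS hWz (by
    rintro t (rfl | rfl | rfl)
    exacts [⟨_, mul_mem haW hbW, hqa⟩, ⟨_, hbW, hqb⟩, ⟨_, hvW, hqv⟩])
  have hfa : f * a * f⁻¹ = a * b := hf a haW _ (mul_mem haW hbW) hqa
  have hfb : f * b * f⁻¹ = b := hf b hbW _ hbW hqb
  have hfv : f * v * f⁻¹ = v := hf v hvW _ hvW hqv
  have hfa' : f⁻¹ * a * f = a * b := by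
    have : f * (a * b) * f⁻¹ = a := by
      rw [show f * (a * b) * f⁻¹ = f * a * f⁻¹ * (f * b * f⁻¹) by group, hfa, hfb, mul_assoc, hbb, mul_one]
    calc f⁻¹ * a * f = f⁻¹ * (f * (a * b) * f⁻¹) * f := by rw [this]
      _ = _ := by group
  have hfb' : f⁻¹ * b * f = b := by
    calc f⁻¹ * b * f = f⁻¹ * (f * b * f⁻¹) * f := by rw [hfb]
      _ = _ := by group
  have hfv' : f⁻¹ * v * f = v := by
    calc f⁻¹ * v * f = f⁻¹ * (f * v * f⁻¹) * f := by rw [hfv]
      _ = _ := by group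
  -- the conjugate component
  have he'i : e'⁻¹ = e' * a := inv_eq_of_mul_eq_one_right (by rw [← mul_assoc, he'2, hJ.sq])
  have h1 : e * b * e⁻¹ = v * a * b := by
    have : e'⁻¹ * b = b * e⁻¹ := by rw [he']; group
    rw [mul_assoc, ← this, he'i, hv]
    group
  have heb : e⁻¹ * b * e = v * a * b := by
    have hei : e⁻¹ = e * a := inv_eq_of_mul_eq_one_right (by rw [← mul_assoc, hee, hJ.sq])
    calc e⁻¹ * b * e = e * (a * b) * e := by rw [hei]; group
      _ = e * (b * a) * e := by rw [hab]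
      _ = e * b * (a * e) := by group
      _ = e * b * e⁻¹ := by rw [hei, hea]
      _ = _ := h1
  set g := f⁻¹ * e⁻¹ with hg
  have hgb : g * b * g⁻¹ = a * v := by
    rw [hg, show f⁻¹ * e⁻¹ * b * (f⁻¹ * e⁻¹)⁻¹ = f⁻¹ * (e⁻¹ * b * e) * f by group, heb,
      show f⁻¹ * (v * a * b) * f = f⁻¹ * v * f * (f⁻¹ * a * f) * (f⁻¹ * b * f) by group, hfv', hfa', hfb',
      mul_assoc, mul_assoc a, hbb, mul_one, hva]
  have hga : g * (v * b) * g⁻¹ = a := by
    have hsame : g⁻¹ * a * g = v * b := by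
      rw [hg, show (f⁻¹ * e⁻¹)⁻¹ * a * (f⁻¹ * e⁻¹) = e * (f * a * f⁻¹) * e⁻¹ by group, hfa,
        show e * (a * b) * e⁻¹ = e * a * e⁻¹ * (e * b * e⁻¹) by group, h1, hea, mul_inv_cancel_right,
        ← mul_assoc, ← mul_assoc, ← hva, mul_assoc v a a, hJ.sq, mul_one]
    rw [← hsame]
    group
  have hcc : a ∈ ctr (a * v) (cj g K) := by
    have := hK.ctr_map (mul_mem hvc hK.z_ctr) g
    rwa [hga, hgb] at this
  have hK' : Intr m (cj g K) (a * v) := hgb ▸ hK.conj g
  have h3 := (triv hK' hJ hcc).2.1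
  have h4 : v ∈ ctr a J := by
    have := mul_mem hJ.z_ctr h3
    rwa [← mul_assoc, hJ.sq, one_mul] at this
  have h5 : e ∈ ctr a J := by
    have := mul_mem h4 (inv_mem (hJ.ctr_other (hJ.conj' hbz) (Ne.symm hmove) he'J))
    rwa [hv, mul_inv_cancel_right] at this
  rcases hJ.ctr_self heJ (IsTwo.of_group hS.pgroup heS) h5 with h | h
  · exact hJ.ne_one' (by rw [← hee, h, one_mul])
  · exact hJ.ne_one' (by rw [← hee, h, hJ.sq])

end Cfsg.Agent.Intrinsic
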