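import Cfsg.Agent.Lib.Intrinsic.Triv
import Cfsg.Agent.Lib.Intrinsic.Two

/-!
The final configuration: three intrinsic components whose involutions generate a group of order eight, which
cannot occur.
-/

set_option autoImplicit false
set_option linter.style.haveILetI false
set_option linter.unusedSectionVars false

namespace Cfsg.Agent.Intrinsic

open Subgroup Cfsg Cfsg.Agent.Components Cfsg.Agent.BpBalance

universe u

variable {G : Type u} [Group G] [Finite G] {m : ℕ}

theorem no_three {K K₁ L : Subgroup G} {a b F f y₁ : G} (hK : Intr m K b) (hK₁ : Intr m K₁ (a * b))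
    (hL : Intr m L F) (haa : a * a = 1) (hab : a * b = b * a) (hFa : F * a = a * F) (hFb : F * b = b * F)
    (hFK : F ∉ ctr b K) (hFK₁ : F ∉ normalizer (K₁ : Set G)) (hfF : f * F = F * f)
    (hfA : f * (a * b) * f⁻¹ = a) (hy₁ : y₁ ∈ K₁) (hy₁a : y₁ * a = a * y₁) (hy₁b : y₁ * b = b * y₁)
    (hy₁F : y₁ * (F * y₁ * F⁻¹) = a) : False := by
  haveI : Fact (Nat.Prime 2) := ⟨Nat.prime_two⟩
  have hbb := hK.sq
  have hFA : F * (a * b) = a * b * F := by rw [← mul_assoc, hFa, mul_assoc, hFb, ← mul_assoc]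
  have hAa : a * b * a = a * (a * b) := by rw [mul_assoc, ← hab]
  have hAL : a * b ∉ normalizer (L : Set G) := fun h => hFK₁ (normalizer_symm hK₁ hL h)
  have hK₃ : Intr m (cj f K₁) a := hfA ▸ hK₁.conj f
  have haL : a ∉ normalizer (L : Set G) := fun h => by
    have h1 := cj_of_mem (normalizer_symm hK₃ hL h)
    rw [cj_cj, ← hfF, ← cj_cj] at h1
    exact hFK₁ (mem_normalizer_of_cj (cj_injective f h1))
  have hFz : F ∈ cz (a * b) := cz_iff.2 hFA
  have hAz : a * b ∈ cz F := cz_iff.2 hFA.symm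
  have haz : a ∈ cz F := cz_iff.2 hFa.symm
  have hbz : b ∈ cz F := cz_iff.2 hFb.symm
  obtain ⟨D₁, Δ₁, hD₁, -, -, -, -, hmem₁, -⟩ :=
    exists_diag hK₁ hFz hL.sq fun h => hFK₁ (mem_normalizer_of_cj h)
  have haD₁ : a ∈ D₁ := by
    have := hmem₁ y₁ hy₁ (by rw [hy₁F]; exact IsTwo.of_mul_self haa) (by rw [hy₁F]; exact hFa.symm)
    rwa [hy₁F] at this
  obtain ⟨D₂, Δ₂, hD₂, -, -, -, hΔmem, -, hD₂L⟩ :=
    exists_diag hL hAz hK₁.sq fun h => hAL (mem_normalizer_of_cj h)
  have hne : D₁ ≠ D₂ := fun h => haL (hD₂L (h ▸ haD₁))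
  set H := cz F ⊓ cz (a * b) with hH
  have hD₁H : PCIn 2 D₁ H := by rw [hH, inf_comm]; exact hD₁.comp
  -- `a` centralizes the image of `D₂`
  set M₀ := (oddCore ↥H).map H.subtype ⊓ D₂ with hM₀
  have hkill : ∀ c ∈ M₀, qt F c = 1 := by
    let r : ↥D₂ →* ↥Δ₂ := ((qz F).comp (inclusion (hD₂.comp.le.trans inf_le_left))).codRestrict Δ₂
      fun x => hD₂.maps x _ x.2
    have hr : Function.Surjective r := fun ⟨d, hd⟩ => by
      obtain ⟨x, hx, hxz, he⟩ := hD₂.surj d hd
      exact ⟨⟨x, hx⟩, Subtype.ext he⟩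
    haveI hn : (M₀.subgroupOf D₂).Normal := ⟨fun c hc d => by
      rw [mem_subgroupOf] at hc ⊢
      obtain ⟨⟨x, hx, hxc⟩, hc2⟩ := hc
      refine ⟨⟨⟨(d : G), hD₂.comp.le d.2⟩ * x * ⟨(d : G), hD₂.comp.le d.2⟩⁻¹,
        (FittingCores.pPrimeCore_normal (G := ↥H) 2).conj_mem x hx _, ?_⟩,
        D₂.mul_mem (D₂.mul_mem d.2 hc2) (D₂.inv_mem d.2)⟩
      simp only [Subgroup.coe_subtype] at hxc
      simp [hxc]⟩
    have hodd : (Nat.card ((M₀.subgroupOf D₂).map r)).Coprime 2 := by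
      refine (FittingCores.pPrimeCore_coprime (G := ↥H) 2).coprime_dvd_left ((card_map_dvd _ _).trans ?_)
      rw [Nat.card_congr (equivMapOfInjective (M₀.subgroupOf D₂) D₂.subtype D₂.subtype_injective).toEquiv,
        Nat.card_congr (equivMapOfInjective (pPrimeCore 2 ↥H) H.subtype H.subtype_injective).toEquiv]
      exact card_dvd_of_le (by rintro _ ⟨x, hx, rfl⟩; exact hx.1)
    have h0 := hD₂.odd _ (Normal.map hn r hr) hodd
    intro c hc
    have h1 : r ⟨c, hc.2⟩ ∈ (M₀.subgroupOf D₂).map r := mem_map_of_mem _ (mem_subgroupOf.2 hc)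
    rw [h0, mem_bot] at h1
    rw [qt_of (hD₂.comp.le hc.2).1]
    exact congrArg Subtype.val h1
  have hcomm : ∀ d ∈ Δ₂, qt F a * d * (qt F a)⁻¹ = d := by
    intro d hd
    obtain ⟨x, hx, hxz, rfl⟩ := hD₂.surj d hd
    obtain ⟨h1, h2⟩ := pcin_commutator hD₁H hD₂.comp hne haD₁ hx
    have := hkill _ (mem_inf.2 ⟨h1, h2⟩)
    rw [← qt_of hxz, ← qt_conj haz hxz]
    rwa [qt_eq_one (mul_mem (mul_mem (mul_mem haz hxz) (inv_mem haz)) (inv_mem hxz)),
      ← qt_congr (mul_mem (mul_mem haz hxz) (inv_mem haz)) hxz] at this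
  -- the three conjugates of `L`
  have hLa := hL.conj' haz
  have hLA := hL.conj' hAz
  have hLb := hL.conj' hbz
  have hu : qt F b = qt F a * qt F (a * b) := by
    rw [← qt_mul haz hAz, ← mul_assoc, haa, one_mul]
  have hmap : ∀ g : G, g ∈ cz F → ∀ k ∈ bar F L, qt F g * k * (qt F g)⁻¹ ∈ bar F (cj g L) := by
    intro g hg k hk
    obtain ⟨x, hx, hxz, rfl⟩ := exists_of_bar hk
    rw [← qt_conj hg hxz]
    exact qt_mem_bar (mul_mem (mul_mem hg hxz) (inv_mem hg)) (conj_mem_cj hx)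
  have hd : ∀ k ∈ bar F L, qt F a * k * (qt F a)⁻¹ * (qt F b * k * (qt F b)⁻¹)
      = k * (qt F (a * b) * k * (qt F (a * b))⁻¹) := by
    intro k hk
    have h := hcomm _ (hΔmem k hk)
    rw [← qt_of hAz] at h
    rw [hu]
    conv_rhs => rw [← h]
    group
  have hAne : cj (a * b) L ≠ L := fun h => hAL (mem_normalizer_of_cj h)
  have hane : cj a L ≠ L := fun h => haL (mem_normalizer_of_cj h)
  by_cases hcase : cj a L = cj (a * b) L
  · have hbL : cj b L = L := by
      rw [show b = a * (a * b) by rw [← mul_assoc, haa, one_mul], ← cj_cj, ← hcase, cj_cj, haa, cj_one]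
    refine hFK (triv hL hK (hL.ctr_of_central hbz hbb fun x hx => ?_)).2.1
    have hxz : x ∈ cz F := hL.le hx
    have hxb : qt F x ∈ bar F L := qt_mem_bar hxz hx
    refine mem_ctr_qt.2 ⟨mul_mem (inv_mem hxz) (mul_mem (mul_mem hbz hxz) (inv_mem hbz)), fun e he => ?_⟩
    rw [qt_mul (inv_mem hxz) (mul_mem (mul_mem hbz hxz) (inv_mem hbz)), qt_inv hxz, qt_conj hbz hxz]
    set k := qt F x
    set k₁ := qt F b * k * (qt F b)⁻¹ with hk₁
    have hk₁L : k₁ ∈ bar F L := by
      have := hmap b hbz k hxb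
      rwa [hbL] at this
    set t := qt F a * k * (qt F a)⁻¹ with htdef
    set s := qt F (a * b) * k * (qt F (a * b))⁻¹
    have ht : t ∈ bar F (cj (a * b) L) := hcase ▸ hmap a haz k hxb
    have hs : s ∈ bar F (cj (a * b) L) := hmap _ hAz k hxb
    have hc := hL.bar_commute hLA hAne.symm
    have h1 : k⁻¹ * k₁ = s * t⁻¹ := by
      rw [inv_mul_eq_iff_eq_mul, ← mul_assoc, eq_mul_inv_iff_mul_eq, mem_centralizer_iff.1 (hc ht) k₁ hk₁L]
      exact hd k hxb
    rw [h1]
    exact (mem_centralizer_iff.1 (hc (mul_mem hs (inv_mem ht))) e he).symm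
  · have hbne : cj b L ≠ L := fun h => hcase (by
      conv_lhs => rw [← h, cj_cj])
    have hall : bar F L ≤ centralizer (bar F L : Set _) := by
      intro k hk
      have h1 := hL.bar_commute hLa hane.symm (hmap a haz k hk)
      have h2 := hL.bar_commute hLb hbne.symm (hmap b hbz k hk)
      have h3 := hL.bar_commute hLA hAne.symm (hmap _ hAz k hk)
      have h4 := mul_mem h1 h2
      rw [hd k hk] at h4
      have := mul_mem h4 (inv_mem h3)
      rwa [mul_inv_cancel_right] at this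
    refine component_ne_bot hL.bar_comp ?_
    rw [← component_commutator_eq hL.bar_comp, commutator_eq_bot_iff_le_centralizer]
    exact hall

end Cfsg.Agent.Intrinsic
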