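import Cfsg.Agent.Lib.Intrinsic.ZStar

/-!
Fusion inside the normalizer of a four-group generated by two component involutions.
-/

set_option autoImplicit false
set_option linter.style.haveILetI false
set_option linter.unusedSectionVars false

namespace Cfsg.Agent.Intrinsic

open Subgroup Cfsg Cfsg.Agent.Components Cfsg.Agent.BpBalance

universe u

variable {G : Type u} [Group G] [Finite G] {m : ℕ}

theorem mem_four {a b : G} (ha : a * a = 1) (hb : b * b = 1) (hab : a * b = b * a) {x : G}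
    (hx : x ∈ closure ({a, b} : Set G)) : x = 1 ∨ x = a ∨ x = b ∨ x = a * b := by
  have h1 : a * (a * b) = b := by rw [← mul_assoc, ha, one_mul]
  have h2 : b * (a * b) = a := by rw [hab, ← mul_assoc, hb, one_mul]
  have h3 : (a * b) * a = b := by rw [hab, mul_assoc, ha, mul_one]
  have h4 : (a * b) * b = a := by rw [mul_assoc, hb, mul_one]
  have h5 : (a * b) * (a * b) = 1 := by rw [mul_assoc, h2, ha]
  induction hx using closure_induction with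
  | mem x hx => rcases hx with rfl | rfl <;> simp
  | one => simp
  | mul x y _ _ ihx ihy =>
    rcases ihx with rfl | rfl | rfl | rfl <;> rcases ihy with rfl | rfl | rfl | rfl <;>
      simp only [ha, hb, h1, h2, h3, h4, h5, one_mul, mul_one, true_or, or_true, ← hab]
  | inv x _ ih =>
    rcases ih with rfl | rfl | rfl | rfl
    · simp
    · exact Or.inr (Or.inl (inv_eq_of_mul_eq_one_right ha))
    · exact Or.inr (Or.inr (Or.inl (inv_eq_of_mul_eq_one_right hb)))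
    · exact Or.inr (Or.inr (Or.inr (inv_eq_of_mul_eq_one_right h5)))

theorem Intr.qt_swap {K : Subgroup G} {z : G} (hK : Intr m K z) {w k : G} (hw : w ∈ cz z) (hk : k ∈ cz z)
    (h : qt z w * qt z k * (qt z w)⁻¹ = qt z z * qt z k) : qt z (k * w * k⁻¹) = qt z (w * z) := by
  have e1 : qt z w * qt z k = qt z z * qt z k * qt z w := mul_inv_eq_iff_eq_mul.1 h
  rw [qt_conj hk hw, qt_mul hw hK.z_mem_cz, mul_inv_eq_iff_eq_mul, mul_assoc, hK.qt_z_comm hk,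
    ← hK.qt_z_comm hk, ← mul_assoc, ← hK.qt_z_comm hw, mul_assoc, e1, ← mul_assoc, ← mul_assoc,
    hK.qt_z_sq, one_mul]

/-- An element of `J` in a 2-group with `y` moving `b` to `a * b`. -/
theorem exists_mover {J : Subgroup G} {a b y : G} (hJ : Intr m J a) (hb2 : b * b = 1)
    (hbJ : b ∈ normalizer (J : Set G)) (hbc : b ∉ ctr a J) (hy : IsTwo y) (hya : y * a = a * y)
    (hyb : y * b = b * y) :
    ∃ (S : Subgroup G) (r : G), IsPGroup 2 S ∧ S ≤ cz a ∧ y ∈ S ∧ r ∈ S ∧ r ∈ J ∧ r * b * r⁻¹ = a * b := by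
  haveI : Fact (Nat.Prime 2) := ⟨Nat.prime_two⟩
  have hba : b * a = a * b := hJ.cz_of_normalizer hbJ
  have hbz : b ∈ cz a := cz_iff.2 hba
  have hne : b ≠ a := fun h => hbc (h ▸ hJ.z_ctr)
  obtain ⟨S₀, hS₀, hbS₀⟩ := PTerm.exists_syl (zpowers_isTwo (IsTwo.of_mul_self hb2)) (zpowers_le.2 hbz)
  obtain ⟨e, ⟨he, -⟩, hee⟩ := hJ.exists_four (hS₀.inf_subnormal hJ.le hJ.comp.sub)
  have haS : a ∈ S₀ := hee ▸ mul_mem he he
  set W := closure ({a, b} : Set G) with hW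
  have hWS : W ≤ S₀ := (closure_le _).2 (by
    rintro t (rfl | rfl)
    exacts [haS, hbS₀ (mem_zpowers _)])
  have hWz : W ≤ cz a := (closure_le _).2 (by
    rintro t (rfl | rfl)
    exacts [hJ.z_mem_cz, hbz])
  have haW : a ∈ W := subset_closure (by simp)
  have hbW : b ∈ W := subset_closure (by simp)
  obtain ⟨kb, hkb, hk⟩ := hJ.zlemma hb2 hbJ hbc
  obtain ⟨k, hkJ, hkz, rfl⟩ := exists_of_bar hkb
  have hqb : qt a (k * b * k⁻¹) = qt a (a * b) := by rw [hJ.qt_swap hbz hkz hk, hba]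
  obtain ⟨f, hfz, hfN, hfk, hf⟩ := exists_lift hkz {a, b} hS₀.pgroup hWS hWz (by
    rintro t (rfl | rfl)
    exacts [⟨_, haW, by rw [hJ.comm hkJ, mul_inv_cancel_right]⟩, ⟨_, mul_mem haW hbW, hqb⟩])
  have hfb : f * b * f⁻¹ = a * b := hf b hbW _ (mul_mem haW hbW) hqb
  have hfa : f * a * f⁻¹ = a := by rw [cz_iff.1 hfz, mul_inv_cancel_right]
  have hf2 : Commute (f ^ 2) b := by
    refine mul_inv_eq_iff_eq_mul.1 ?_
    calc f ^ 2 * b * (f ^ 2)⁻¹ = f * (f * b * f⁻¹) * f⁻¹ := by rw [pow_two]; group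
      _ = f * (a * b) * f⁻¹ := by rw [hfb]
      _ = f * a * f⁻¹ * (f * b * f⁻¹) := by group
      _ = b := by rw [hfa, hfb, ← mul_assoc, hJ.sq, one_mul]
  obtain ⟨n, ⟨l, hl⟩, hn⟩ := exists_odd_two f
  set M := cz a ⊓ normalizer (W : Set G) with hM
  set f' := f ^ n with hf'
  have hf'M : f' ∈ M := pow_mem (show f ∈ M from ⟨hfz, hfN⟩) n
  have hf'J : f' ∈ J := by
    refine hJ.mem_of_bar hf'M.1 hn ?_
    rw [show (⟨f', hf'M.1⟩ : ↥(cz a)) = (⟨f, hfz⟩ : ↥(cz a)) ^ n from Subtype.ext rfl, map_pow,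
      ← qt_of hfz, hfk]
    exact pow_mem hkb n
  have hf'b : f' * b * f'⁻¹ = a * b := by
    rw [hf', hl, pow_succ', pow_mul, show f * (f ^ 2) ^ l * b * (f * (f ^ 2) ^ l)⁻¹
      = f * ((f ^ 2) ^ l * b * ((f ^ 2) ^ l)⁻¹) * f⁻¹ by group, (hf2.pow_left l).eq, mul_inv_cancel_right, hfb]
  have hyM : y ∈ M := by
    refine ⟨cz_iff.2 hya, mem_normalizer_fintype fun t ht => ?_⟩
    have hle : W ≤ cz y := (closure_le _).2 (by
      rintro s (rfl | rfl)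
      exacts [cz_iff.2 hya.symm, cz_iff.2 hyb.symm])
    rw [← cz_iff.1 (hle ht), mul_inv_cancel_right]
    exact ht
  obtain ⟨S, hS, hyS⟩ := PTerm.exists_syl (zpowers_isTwo hy) (zpowers_le.2 hyM)
  have hsub : ((M ⊓ J).subgroupOf M).IsSubnormal := by
    rw [inf_subgroupOf_left]
    exact hJ.comp.sub.comap (inclusion (inf_le_left : M ≤ cz a))
  have hX := hS.inf_subnormal inf_le_left hsub
  obtain ⟨g, hg, hgle⟩ := PTerm.exists_conj_le hX (zpowers_isTwo hn)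
    (zpowers_le.2 (mem_inf.2 ⟨hf'M, hf'J⟩))
  have hs : g⁻¹ * f' * g ∈ S ⊓ (M ⊓ J) := PTerm.mem_cj.1 (hgle (mem_zpowers _))
  set s := g⁻¹ * f' * g with hs'
  have himg : ∀ t ∈ M, t * b * t⁻¹ = b ∨ t * b * t⁻¹ = a * b := by
    intro t ht
    have h1 : t * b * t⁻¹ ∈ W := (mem_normalizer_iff.1 ht.2 b).1 hbW
    have hta : t * a = a * t := cz_iff.1 ht.1
    rcases mem_four hJ.sq hb2 hba.symm h1 with h | h | h | h
    · exfalso
      rw [mul_inv_eq_iff_eq_mul, one_mul, mul_eq_left] at h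
      exact hbc (h ▸ one_mem _)
    · exact absurd (mul_left_cancel ((mul_inv_eq_iff_eq_mul.1 h).trans hta.symm)) hne
    · exact Or.inl h
    · exact Or.inr h
  refine ⟨S, s, hS.pgroup, hS.le.trans inf_le_left, hyS (mem_zpowers y), hs.1, hs.2.2, ?_⟩
  refine (himg s hs.2.1).resolve_left fun hfix => ?_
  have hsa : s * a * s⁻¹ = a := by rw [cz_iff.1 hs.2.1.1, mul_inv_cancel_right]
  have hfg : f' * (g * b * g⁻¹) * f'⁻¹ = g * b * g⁻¹ := by
    calc f' * (g * b * g⁻¹) * f'⁻¹ = g * (s * b * s⁻¹) * g⁻¹ := by rw [hs']; group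
      _ = _ := by rw [hfix]
  have hf'a : f' * a * f'⁻¹ = a := by rw [cz_iff.1 hf'M.1, mul_inv_cancel_right]
  rcases himg g hg.1 with h | h <;> rw [h] at hfg
  · exact hJ.ne_one' (mul_eq_right.1 (hf'b.symm.trans hfg))
  · rw [show f' * (a * b) * f'⁻¹ = f' * a * f'⁻¹ * (f' * b * f'⁻¹) by group, hf'a, hf'b,
      ← mul_assoc, hJ.sq, one_mul] at hfg
    exact hJ.ne_one' (mul_eq_right.1 hfg.symm)

/-- An element of order four of `K` conjugate to `y` modulo the core and moving `a` to `a * b`. -/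
theorem exists_fusion {K : Subgroup G} {a b y : G} {S₁ : Subgroup G} (hK : Intr m K b) (ha : a * a = 1)
    (hy : y ∈ K) (hyy : y * y = b) (hS₁ : IsPGroup 2 S₁) (hS₁b : S₁ ≤ cz b) (hS₁a : S₁ ≤ cz a)
    (haS : a ∈ S₁) (hbS : b ∈ S₁)
    (hact : ∀ d ∈ bar b K, qt b a * d * (qt b a)⁻¹ = (qt b y)⁻¹ * d * qt b y) :
    ∃ (S : Subgroup G) (f g : G), IsPGroup 2 S ∧ S ≤ cz b ∧ S₁ ≤ S ∧ f ∈ S ∧ f ∈ K ∧ f * f = b ∧
      g ∈ K ∧ qt b f = qt b (g * y * g⁻¹) ∧ f * a * f⁻¹ = a * b := by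
  haveI : Fact (Nat.Prime 2) := ⟨Nat.prime_two⟩
  have haz : a ∈ cz b := hS₁b haS
  have hab : a * b = b * a := cz_iff.1 haz
  have hyz : y ∈ cz b := hK.le hy
  obtain ⟨g₀, hg₀, hq⟩ := hK.quat hy hyy
  obtain ⟨g', hg'K, hg'z, rfl⟩ := exists_of_bar hg₀
  set k := g' * y * g'⁻¹ with hk
  have hkK : k ∈ K := mul_mem (mul_mem hg'K hy) (inv_mem hg'K)
  have hkz : k ∈ cz b := hK.le hkK
  have hqk : qt b k = qt b g' * qt b y * (qt b g')⁻¹ := qt_conj hg'z hyz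
  rw [← hqk] at hq
  have hswap : qt b a * qt b k * (qt b a)⁻¹ = qt b b * qt b k := by
    rw [hact _ (qt_mem_bar hkz hkK)]
    have e : qt b y * qt b k = qt b b * qt b k * qt b y := mul_inv_eq_iff_eq_mul.1 hq
    rw [mul_assoc, inv_mul_eq_iff_eq_mul, ← mul_assoc, ← hK.qt_z_comm hyz, mul_assoc (qt b b), e, ← mul_assoc, ← mul_assoc, hK.qt_z_sq, one_mul]
  have hqa : qt b (k * a * k⁻¹) = qt b (a * b) := hK.qt_swap haz hkz hswap
  set W := closure ({a, b} : Set G) with hW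
  have hWS : W ≤ S₁ := (closure_le _).2 (by
    rintro t (rfl | rfl)
    exacts [haS, hbS])
  have haW : a ∈ W := subset_closure (by simp)
  have hbW : b ∈ W := subset_closure (by simp)
  obtain ⟨f₀, hf₀z, hf₀N, hf₀k, -⟩ := exists_lift hkz {a, b} hS₁ hWS (hWS.trans hS₁b) (by
    rintro t (rfl | rfl)
    exacts [⟨_, mul_mem haW hbW, hqa⟩, ⟨_, hbW, by rw [hK.comm hkK, mul_inv_cancel_right]⟩])
  have hk4 : qt b k ^ 2 ^ 2 = 1 := by
    rw [show (2 : ℕ) ^ 2 = 2 * 2 by norm_num, pow_mul, pow_two, pow_two, hqk,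
      show qt b g' * qt b y * (qt b g')⁻¹ * (qt b g' * qt b y * (qt b g')⁻¹) =
        qt b g' * (qt b y * qt b y) * (qt b g')⁻¹ by group, ← qt_mul hyz hyz, hyy,
      show qt b g' * qt b b * (qt b g')⁻¹ * (qt b g' * qt b b * (qt b g')⁻¹) =
        qt b g' * (qt b b * qt b b) * (qt b g')⁻¹ by group, hK.qt_z_sq, mul_one, mul_inv_cancel]
  obtain ⟨⟨f₁, hf₁z⟩, ⟨i, hi⟩, hf₁q, j, hj⟩ := exists_two_preimage (qz b) hk4 ⟨f₀, hf₀z⟩
    (by rw [← qt_of hf₀z]; exact hf₀k)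
  have hi' : f₀ ^ i = f₁ := congrArg Subtype.val hi
  set M := cz b ⊓ normalizer (W : Set G) with hM
  have hf₁M : f₁ ∈ M := hi' ▸ zpow_mem (show f₀ ∈ M from ⟨hf₀z, hf₀N⟩) i
  have hf₁two : IsTwo f₁ := ⟨j, congrArg Subtype.val hj⟩
  have hf₁K : f₁ ∈ K := hK.mem_of_bar hf₁z hf₁two (by rw [hf₁q]; exact qt_mem_bar hkz hkK)
  have hq₁ : qt b f₁ = qt b k := by rw [qt_of hf₁z]; exact hf₁q
  have hf₁a : f₁ * a * f₁⁻¹ = a * b := by
    refine qt_exact hS₁ (mul_mem (mul_mem hf₁z haz) (inv_mem hf₁z)) (mul_mem haz hK.z_mem_cz)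
      (hWS ((mem_normalizer_iff.1 hf₁M.2 a).1 haW)) (mul_mem haS hbS) ?_
    rw [qt_conj hf₁z haz, hq₁, ← qt_conj hkz haz, hqa]
  have hS₁M : S₁ ≤ M := fun t ht => by
    refine ⟨hS₁b ht, mem_normalizer_fintype fun w hw => ?_⟩
    have hle : W ≤ cz t := (closure_le _).2 (by
      rintro s (rfl | rfl)
      exacts [cz_iff.2 (cz_iff.1 (hS₁a ht)).symm, cz_iff.2 (cz_iff.1 (hS₁b ht)).symm])
    rw [← cz_iff.1 (hle hw), mul_inv_cancel_right]
    exact hw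
  obtain ⟨S, hS, hS₁S⟩ := PTerm.exists_syl hS₁ hS₁M
  have hsub : ((M ⊓ K).subgroupOf M).IsSubnormal := by
    rw [inf_subgroupOf_left]
    exact hK.comp.sub.comap (inclusion (inf_le_left : M ≤ cz b))
  obtain ⟨h, hh, hhle⟩ := PTerm.exists_conj_le (hS.inf_subnormal inf_le_left hsub) (zpowers_isTwo hf₁two)
    (zpowers_le.2 (mem_inf.2 ⟨hf₁M, hf₁K⟩))
  have hf : h⁻¹ * f₁ * h ∈ S ⊓ (M ⊓ K) := PTerm.mem_cj.1 (hhle (mem_zpowers _))
  set f := h⁻¹ * f₁ * h with hfdef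
  have hqf : qt b f = qt b ((h⁻¹ * g') * y * (h⁻¹ * g')⁻¹) := by
    have e : qt b f = (qt b h)⁻¹ * qt b f₁ * qt b h := by
      rw [hfdef, qt_mul (mul_mem (inv_mem hh.1.1) hf₁z) hh.1.1, qt_mul (inv_mem hh.1.1) hf₁z, qt_inv hh.1.1]
    rw [e, hq₁, hqk, qt_conj (mul_mem (inv_mem hh.1.1) hg'z) hyz, qt_mul (inv_mem hh.1.1) hg'z, qt_inv hh.1.1]
    group
  refine ⟨S, f, h⁻¹ * g', hS.pgroup, hS.le.trans inf_le_left, hS₁S, hf.1, hf.2.2, ?_,
    mul_mem (inv_mem hh.2) hg'K, hqf, ?_⟩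
  · refine qt_exact hS.pgroup (mul_mem hf.2.1.1 hf.2.1.1) hK.z_mem_cz (mul_mem hf.1 hf.1) (hS₁S hbS) ?_
    have hc : h⁻¹ * g' * b = b * (h⁻¹ * g') := hK.comm (mul_mem (inv_mem hh.2) hg'K)
    rw [qt_mul hf.2.1.1 hf.2.1.1, hqf, ← qt_mul (hK.le ?_) (hK.le ?_)]
    · rw [show h⁻¹ * g' * y * (h⁻¹ * g')⁻¹ * (h⁻¹ * g' * y * (h⁻¹ * g')⁻¹) =
        h⁻¹ * g' * (y * y) * (h⁻¹ * g')⁻¹ by group, hyy, hc, mul_inv_cancel_right]
    all_goals exact mul_mem (mul_mem (mul_mem (inv_mem hh.2) hg'K) hy) (inv_mem (mul_mem (inv_mem hh.2) hg'K))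
  · have hhb : h * b = b * h := cz_iff.1 hh.1.1
    have hne : a ≠ b := fun e => hK.ne_one' (by
      subst e
      rw [cz_iff.1 hf₁z, mul_inv_cancel_right, hK.sq] at hf₁a
      exact hf₁a)
    have hab1 : f₁ * (a * b) * f₁⁻¹ = a := by
      rw [show f₁ * (a * b) * f₁⁻¹ = f₁ * a * f₁⁻¹ * (f₁ * b * f₁⁻¹) by group, hf₁a, cz_iff.1 hf₁z,
        mul_inv_cancel_right, mul_assoc, hK.sq, mul_one]
    have himg : h * a * h⁻¹ = a ∨ h * a * h⁻¹ = a * b := by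
      rcases mem_four ha hK.sq hab ((mem_normalizer_iff.1 hh.1.2 a).1 haW) with e | e | e | e
      · rw [mul_inv_eq_iff_eq_mul, one_mul, mul_eq_left] at e
        exact Or.inl (by rw [e]; group)
      · exact Or.inl e
      · exact absurd (mul_left_cancel ((mul_inv_eq_iff_eq_mul.1 e).trans hhb.symm)) hne
      · exact Or.inr e
    rw [hfdef, show h⁻¹ * f₁ * h * a * (h⁻¹ * f₁ * h)⁻¹ = h⁻¹ * (f₁ * (h * a * h⁻¹) * f₁⁻¹) * h by group]
    rcases himg with e | e <;> rw [e]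
    · rw [hf₁a, show h⁻¹ * (a * b) * h = h⁻¹ * a * h * (h⁻¹ * (b * h)) by group, ← hhb, inv_mul_cancel_left]
      congr 1
      calc h⁻¹ * a * h = h⁻¹ * (h * a * h⁻¹) * h := by rw [e]
        _ = a := by group
    · rw [hab1]
      have e' : h * (a * b) * h⁻¹ = a := by
        rw [show h * (a * b) * h⁻¹ = h * a * h⁻¹ * (h * b * h⁻¹) by group, e, hhb, mul_inv_cancel_right,
          mul_assoc, hK.sq, mul_one]
      calc h⁻¹ * a * h = h⁻¹ * (h * (a * b) * h⁻¹) * h := by rw [e']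
        _ = a * b := by group

end Cfsg.Agent.Intrinsic
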