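import Cfsg.Agent.Lib.Intrinsic.Tools

/-!
A 2-element of one intrinsic component moving another one which contains an element moving the first
involution.
-/

set_option autoImplicit false
set_option linter.style.haveILetI false
set_option linter.unusedSectionVars false

namespace Cfsg.Agent.Intrinsic

open Subgroup Cfsg Cfsg.Agent.Components Cfsg.Agent.BpBalance

universe u

variable {G : Type u} [Group G] [Finite G] {m : ℕ}

/-- Product of the first conjugates of `r` under powers of `y`. -/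
def orbProd (y r : G) : ℕ → G
  | 0 => 1
  | k + 1 => orbProd y r k * (y ^ k * r * (y ^ k)⁻¹)

theorem stage {J K : Subgroup G} {a b y r : G} {S : Subgroup G} (hJ : Intr m J a) (hK : Intr m K b)
    (hbJ : b ∈ normalizer (J : Set G)) (hS : IsPGroup 2 S) (hSa : S ≤ cz a) (hy : y ∈ K) (hyS : y ∈ S)
    (hr : r ∈ J) (hrS : r ∈ S) (hyJ : y ∉ normalizer (J : Set G)) (hrb : r * b * r⁻¹ = a * b) :
    y * y = b ∧ r * (y * r * y⁻¹) = (y * r * y⁻¹) * r ∧ y * (y * r * y⁻¹) * y⁻¹ = r * a ∧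
      r * (y * r * y⁻¹) ∉ normalizer (K : Set G) ∧
      y * (r * (y * r * y⁻¹)) * y⁻¹ = r * (y * r * y⁻¹) * a ∧
      r * (y * r * y⁻¹) * y * (r * (y * r * y⁻¹))⁻¹ = a * y := by
  classical
  have hy1 : y ≠ 1 := fun h => hyJ (h ▸ one_mem _)
  have hyb : y ≠ b := fun h => hyJ (h ▸ hbJ)
  have hya : y * a = a * y := cz_iff.1 (hSa hyS)
  have hra : r * a = a * r := cz_iff.1 (hSa hrS)
  have hbb := hK.sq
  have haa := hJ.sq
  have hyt : IsTwo y := IsTwo.of_group hS hyS
  obtain ⟨e, he, hord⟩ := hK.z_pow hy hyt hy1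
  have hrne : r * b * r⁻¹ ≠ b := by
    rw [hrb]
    exact fun h => hJ.ne_one' (mul_eq_right.1 h)
  -- the length of the orbit of `J`
  have hex : ∃ k, 0 < k ∧ y ^ k ∈ normalizer (J : Set G) := ⟨2 ^ e, Nat.two_pow_pos e, he ▸ hbJ⟩
  set n := Nat.find hex with hn
  obtain ⟨hn0, hnJ⟩ := Nat.find_spec hex
  have hmin : ∀ k, 0 < k → k < n → y ^ k ∉ normalizer (J : Set G) := fun k hk hkn h =>
    Nat.find_min hex hkn ⟨hk, h⟩
  have hdvd : ∀ k, y ^ k ∈ normalizer (J : Set G) → n ∣ k := by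
    intro k hk
    by_contra h
    refine hmin (k % n) (Nat.pos_of_ne_zero fun h0 => h (Nat.dvd_of_mod_eq_zero h0)) (Nat.mod_lt _ hn0) ?_
    have e1 := Nat.mod_add_div k n
    rw [← e1, pow_add, pow_mul] at hk
    exact (mul_mem_cancel_right (pow_mem hnJ _)).1 hk
  have hn1 : n ≠ 1 := fun h => hyJ (by
    have := hnJ
    rwa [← hn, h, pow_one] at this)
  obtain ⟨i, -, hi⟩ := (Nat.dvd_prime_pow Nat.prime_two).1 (hdvd (2 ^ e) (he ▸ hbJ))
  have heven : Even n := by
    rcases i with _ | i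
    · exact absurd (by rw [hi, pow_zero]) hn1
    · exact ⟨2 ^ i, by rw [hi, pow_succ]; ring⟩
  obtain ⟨q, hq⟩ := hdvd (2 ^ e) (he ▸ hbJ)
  -- the conjugates
  set rr : ℕ → G := fun k => y ^ k * r * (y ^ k)⁻¹ with hrr
  have hrS' : ∀ k, rr k ∈ S := fun k => mul_mem (mul_mem (pow_mem hyS k) hrS) (inv_mem (pow_mem hyS k))
  have hJk : ∀ k, Intr m (cj (y ^ k) J) a := fun k => hJ.conj' (pow_mem (cz_iff.2 hya) k)
  have hrJ : ∀ k, rr k ∈ cj (y ^ k) J := fun k => conj_mem_cj hr
  have hne : ∀ k, 0 < k → k < n → cj (y ^ k) J ≠ J := fun k h0 h1 h =>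
    hmin k h0 h1 (mem_normalizer_of_cj h)
  have hcomm : ∀ k, k < n → r * rr k = rr k * r := by
    intro k hk
    rcases Nat.eq_zero_or_pos k with rfl | h0
    · simp [hrr]
    · exact hJ.commute (hJk k) (hne k h0 hk).symm hS hr (hrJ k) hrS (hrS' k)
  have hrN : ∀ k, k < n → rr k ∈ normalizer (J : Set G) := by
    intro k hk
    rcases Nat.eq_zero_or_pos k with rfl | h0
    · exact le_normalizer (by simpa [hrr] using hr)
    · exact hJ.ctr_le_normalizer (hJ.ctr_other (hJk k) (hne k h0 hk).symm (hrJ k))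
  have hyb' : ∀ k, y ^ k * b = b * y ^ k := fun k =>
    ((show Commute y b from hK.comm hy).pow_left k).eq
  have hrrb : ∀ k, rr k * b * (rr k)⁻¹ = a * b := by
    intro k
    have hka : y ^ k * a = a * y ^ k := ((show Commute y a from hya).pow_left k).eq
    calc rr k * b * (rr k)⁻¹ = y ^ k * r * ((y ^ k)⁻¹ * b * y ^ k) * r⁻¹ * (y ^ k)⁻¹ := by
          simp only [hrr]; group
      _ = y ^ k * (r * b * r⁻¹) * (y ^ k)⁻¹ := by rw [mul_assoc _ b, ← hyb', inv_mul_cancel_left]; group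
      _ = _ := by rw [hrb, mul_inv_eq_iff_eq_mul, ← mul_assoc, hka, mul_assoc, hyb', ← mul_assoc]
  -- the product
  set P := orbProd y r with hPdef
  have hPs : ∀ k, P (k + 1) = P k * rr k := fun k => rfl
  have hPS : ∀ k, P k ∈ S := by
    intro k
    induction k with
    | zero => exact one_mem _
    | succ k ih => exact mul_mem ih (hrS' k)
  have hPshift : ∀ k, y * P k * y⁻¹ = r⁻¹ * P (k + 1) := by
    intro k
    induction k with
    | zero =>
      rw [hPs 0, show P 0 = 1 from rfl]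
      simp [hrr]
    | succ k ih =>
      rw [hPs (k + 1), ← mul_assoc, ← ih, hPs k]
      simp only [hrr]
      rw [pow_succ']
      group
  have hPr : ∀ k ≤ n, r * P k = P k * r := by
    intro k hk
    induction k with
    | zero => simp [hPdef, orbProd]
    | succ k ih => rw [hPs, ← mul_assoc, ih (by omega), mul_assoc, hcomm k (by omega), ← mul_assoc]
  have hPN : ∀ k ≤ n, P k ∈ normalizer (J : Set G) := by
    intro k hk
    induction k with
    | zero => exact one_mem _
    | succ k ih => rw [hPs]; exact mul_mem (ih (by omega)) (hrN k (by omega))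
  have hPb : ∀ k, P k * b * (P k)⁻¹ = a ^ k * b := by
    intro k
    induction k with
    | zero => simp [hPdef, orbProd]
    | succ k ih =>
      have hPa : P k * a = a * P k := cz_iff.1 (hSa (hPS k))
      rw [hPs, show P k * rr k * b * (P k * rr k)⁻¹ = P k * (rr k * b * (rr k)⁻¹) * (P k)⁻¹ by group, hrrb,
        ← mul_assoc, hPa, mul_assoc a, mul_assoc a, ih, pow_succ', mul_assoc]
  obtain ⟨R, hR⟩ : ∃ R, R = P n := ⟨_, rfl⟩
  have hRb : R * b = b * R := by
    obtain ⟨l, hl⟩ := heven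
    have h1 := hPb n
    rw [← hR, hl, ← two_mul, pow_mul, pow_two, haa, one_pow, one_mul, mul_inv_eq_iff_eq_mul] at h1
    exact h1
  have hRS : R ∈ S := hR ▸ hPS n
  have hRJ : R ∈ normalizer (J : Set G) := hR ▸ hPN n le_rfl
  set c := r⁻¹ * rr n with hc
  have hcJ : c ∈ J := mul_mem (inv_mem hr) (by
    have := hrJ n
    rwa [cj_of_mem hnJ] at this)
  have hcS : c ∈ S := mul_mem (inv_mem hrS) (hrS' n)
  have hshift : y * R * y⁻¹ = R * c := by
    rw [hR, hPshift, hPs, hc, ← mul_assoc r⁻¹, ((show Commute r (P n) from hPr n le_rfl).inv_left).eq, mul_assoc]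
  obtain ⟨d, hd⟩ : ∃ d, d = R * c⁻¹ * R⁻¹ := ⟨_, rfl⟩
  have hdy : R * y * R⁻¹ = d * y := by
    rw [hd, show c = R⁻¹ * (y * R * y⁻¹) by rw [hshift, inv_mul_cancel_left]]
    group
  have hdJ : d ∈ J := hd ▸ (mem_normalizer_iff.1 hRJ _).1 (inv_mem hcJ)
  have hdS : d ∈ S := hd ▸ mul_mem (mul_mem hRS (inv_mem hcS)) (inv_mem hRS)
  have hc1 : c ≠ 1 := by
    intro h
    rw [hc, inv_mul_eq_one, hrr] at h
    have h1 : Commute (y ^ n) r := (mul_inv_eq_iff_eq_mul.1 h.symm)
    have h2 := h1.pow_left q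
    rw [← pow_mul, ← hq, ← he] at h2
    exact hrne (mul_inv_eq_iff_eq_mul.2 h2.eq.symm)
  have hd1 : d ≠ 1 := by
    rw [hd, Ne, mul_inv_eq_one, mul_eq_left, inv_eq_one]
    exact hc1
  have hRK : R ∉ normalizer (K : Set G) := by
    intro h
    have hdK : d ∈ K := by
      have := mul_mem ((mem_normalizer_iff.1 h y).1 hy) (inv_mem hy)
      rwa [hdy, mul_inv_cancel_right] at this
    by_cases h2 : d = a
    · refine hrne ?_
      rw [hrb]
      have hba : a = b := hK.uniq a (h2 ▸ hdK) hJ.ord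
      exfalso
      exact hrne (by rw [← hba]; rw [hra, mul_inv_cancel_right])
    · have hab' : d * d = 1 → False := fun h3 => (hJ.sq_cases hdJ h3).elim hd1 h2
      obtain ⟨l, hl, -⟩ := hJ.z_pow hdJ (IsTwo.of_group hS hdS) hd1
      have haK : a ∈ K := hl ▸ pow_mem hdK _
      exact hrne (by rw [← hK.uniq a haK hJ.ord, hra, mul_inv_cancel_right])
  have hRbz : R ∈ cz b := cz_iff.2 hRb
  have hK1 := hK.conj' hRbz
  have hneK : cj R K ≠ K := fun h => hRK (mem_normalizer_of_cj h)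
  have hy' : R * y * R⁻¹ ∈ cj R K := conj_mem_cj hy
  have hy'S : R * y * R⁻¹ ∈ S := mul_mem (mul_mem hRS hyS) (inv_mem hRS)
  have hcom := hK.commute hK1 (Ne.symm hneK) hS hy hy' hyS hy'S
  rw [hdy] at hcom hy'
  have hyd : y * d * y⁻¹ = d := by
    rw [mul_inv_eq_iff_eq_mul]
    exact mul_right_cancel (b := y) (by rw [mul_assoc y d y]; exact hcom)
  have hda : d = a := by
    have hJ1 := hJk 1
    rw [pow_one] at hJ1
    have h1 : d ∈ cj y J := hyd ▸ conj_mem_cj hdJ
    have hne1 : cj y J ≠ J := fun h => hyJ (mem_normalizer_of_cj h)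
    exact (hJ.mem_inter hJ1 hne1.symm hdJ h1 (IsTwo.of_group hS hdS)).resolve_left hd1
  have hca : c = a := by
    have hRa : R * a = a * R := cz_iff.1 (hSa hRS)
    have h1 : c⁻¹ = R⁻¹ * d * R := by rw [hd]; group
    rw [← inv_inv c, h1, hda, mul_assoc, ← hRa, inv_mul_cancel_left, hJ.inv_self]
  rw [hda] at hdy hy'
  -- the square of `y`
  have hyy : y * y = b := by
    have h1 : y * y ∈ cj R K := by
      have := mul_mem hy' hy'
      rwa [show a * y * (a * y) = a * (y * a) * y by group, hya, ← mul_assoc, haa, one_mul] at this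
    rcases hK.mem_inter hK1 (Ne.symm hneK) (mul_mem hy hy) h1 (IsTwo.of_group hS (mul_mem hyS hyS)) with
      h | h
    · rcases hK.sq_cases hy h with h' | h'
      · exact absurd h' hy1
      · exact absurd h' hyb
    · exact h
  have hn2 : n = 2 := by
    have h1 : n ∣ 2 := hdvd 2 (by rw [pow_two, hyy]; exact hbJ)
    rcases (Nat.dvd_prime Nat.prime_two).1 h1 with h | h
    · exact absurd h hn1
    · exact h
  have hP2 : R = r * (y * r * y⁻¹) := by
    rw [hR, hn2]
    simp [hPdef, orbProd]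
  have hr2 : rr 2 = r * a := by rw [← hn2, ← hca, hc, mul_inv_cancel_left]
  refine ⟨hyy, ?_, ?_, hP2 ▸ hRK, ?_, ?_⟩
  · have := hcomm 1 (by omega)
    simpa [hrr] using this
  · rw [← hr2]
    simp only [hrr]
    rw [pow_two]
    group
  · rw [← hP2, hshift, hca]
  · rw [← hP2, hdy]

end Cfsg.Agent.Intrinsic
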