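import Cfsg.Agent.Lib.Intrinsic.Final
import Cfsg.Agent.Lib.Intrinsic.Fusion
import Cfsg.Agent.Lib.Intrinsic.Stage

/-!
A 2-element of order at least four of one intrinsic component centralizing the involution of another one
normalizes that component.
-/

set_option autoImplicit false
set_option linter.style.haveILetI false
set_option linter.unusedSectionVars false

namespace Cfsg.Agent.Intrinsic

open Subgroup Cfsg Cfsg.Agent.Components Cfsg.Agent.BpBalance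

universe u

variable {G : Type u} [Group G] [Finite G] {m : ℕ}

theorem normalizer_of_two {J K : Subgroup G} {a b y : G} (hJ : Intr m J a) (hK : Intr m K b) (hy : y ∈ K)
    (hyt : IsTwo y) (h4 : 4 ≤ orderOf y) (hya : y * a = a * y) : y ∈ normalizer (J : Set G) := by
  haveI : Fact (Nat.Prime 2) := ⟨Nat.prime_two⟩
  have hy1 : y ≠ 1 := fun h => by simp [h] at h4
  have hyb : y ≠ b := fun h => by rw [h, hK.ord] at h4; omega
  have haK : a ∈ normalizer (K : Set G) := hK.normalizer_of_commute hy hyt hy1 hyb hya.symm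
  have hbJ := normalizer_symm hJ hK haK
  by_cases hbc : b ∈ ctr a J
  · exact (triv hK hJ (triv hJ hK hbc).2.1).2.2 y hy hyt hya
  by_contra hyJ
  have hac : a ∉ ctr b K := fun h => hbc (triv hK hJ h).2.1
  have hbb := hK.sq
  have haa := hJ.sq
  have hai := hJ.inv_self
  have hyb' : y * b = b * y := hK.comm hy
  have hab : a * b = b * a := hK.cz_of_normalizer haK
  obtain ⟨S, r, hS, hSa, hyS, hrS, hrJ, hrb⟩ := exists_mover hJ hbb hbJ hbc hyt hya hyb'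
  obtain ⟨hyy, hrr, hr2, hRK, -, hRy⟩ := stage hJ hK hbJ hS hSa hy hyS hrJ hrS hyJ hrb
  obtain ⟨r₁, hr₁⟩ : ∃ r₁, r₁ = y * r * y⁻¹ := ⟨_, rfl⟩
  rw [← hr₁] at hrr hr2 hRK hRy
  have hr₁S : r₁ ∈ S := hr₁ ▸ mul_mem (mul_mem hyS hrS) (inv_mem hyS)
  have hbS : b ∈ S := hyy ▸ mul_mem hyS hyS
  obtain ⟨R, hR⟩ : ∃ R, R = r * r₁ := ⟨_, rfl⟩
  rw [← hR] at hRK hRy
  have hRS : R ∈ S := hR ▸ mul_mem hrS hr₁S
  have hayS : a * y ∈ S := hRy ▸ mul_mem (mul_mem hRS hyS) (inv_mem hRS)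
  have haS : a ∈ S := by
    have := mul_mem hayS (inv_mem hyS)
    rwa [mul_inv_cancel_right] at this
  have hra : r * a = a * r := cz_iff.1 (hSa hrS)
  have hrA : r * (a * b) * r⁻¹ = b := by
    rw [show r * (a * b) * r⁻¹ = r * a * r⁻¹ * (r * b * r⁻¹) by group, hrb, hra, mul_inv_cancel_right,
      ← mul_assoc, haa, one_mul]
  have hr'b : r⁻¹ * b * r = a * b := by
    calc r⁻¹ * b * r = r⁻¹ * (r * (a * b) * r⁻¹) * r := by rw [hrA]
      _ = _ := by group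
  have hRb : R * b = b * R := by
    have h1 : r₁ * b * r₁⁻¹ = a * b := by
      rw [hr₁, show y * r * y⁻¹ * b * (y * r * y⁻¹)⁻¹ = y * (r * (y⁻¹ * b * y) * r⁻¹) * y⁻¹ by group,
        show y⁻¹ * b * y = b by rw [mul_assoc, ← hyb', inv_mul_cancel_left], hrb,
        show y * (a * b) * y⁻¹ = a * b by rw [← mul_assoc, hya, mul_assoc a, hyb', ← mul_assoc,
          mul_inv_cancel_right]]
    refine mul_inv_eq_iff_eq_mul.1 ?_
    rw [hR, show r * r₁ * b * (r * r₁)⁻¹ = r * (r₁ * b * r₁⁻¹) * r⁻¹ by group, h1, hrA]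
  -- the conjugates of `K`
  have hK' := hK.conj' (cz_iff.2 hRb : R ∈ cz b)
  have hneK' : cj R K ≠ K := fun h => hRK (mem_normalizer_of_cj h)
  have hayK' : a * y ∈ cj R K := hRy ▸ conj_mem_cj hy
  have hK₁ : Intr m (cj r K) (a * b) := hrb ▸ hK.conj r
  obtain ⟨y₁, hy₁⟩ : ∃ y₁, y₁ = r * y * r⁻¹ := ⟨_, rfl⟩
  have hy₁K₁ : y₁ ∈ cj r K := hy₁ ▸ conj_mem_cj hy
  have hy₁S : y₁ ∈ S := hy₁ ▸ mul_mem (mul_mem hrS hyS) (inv_mem hrS)
  have hy₁a : y₁ * a = a * y₁ := cz_iff.1 (hSa hy₁S)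
  have hy₁b : y₁ * b = b * y₁ := by
    refine mul_inv_eq_iff_eq_mul.1 ?_
    rw [hy₁, show r * y * r⁻¹ * b * (r * y * r⁻¹)⁻¹ = r * (y * (r⁻¹ * b * r) * y⁻¹) * r⁻¹ by group, hr'b,
      show y * (a * b) * y⁻¹ = a * b by rw [← mul_assoc, hya, mul_assoc a, hyb', ← mul_assoc,
          mul_inv_cancel_right], hrA]
  have hy₁sq : y₁ * y₁ = a * b := by
    rw [hy₁, show r * y * r⁻¹ * (r * y * r⁻¹) = r * (y * y) * r⁻¹ by group, hyy, hrb]
  obtain ⟨d, hd⟩ : ∃ d, d = r * r * (r₁⁻¹ * r₁⁻¹) := ⟨_, rfl⟩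
  have hdS : d ∈ S := hd ▸ mul_mem (mul_mem hrS hrS) (mul_mem (inv_mem hr₁S) (inv_mem hr₁S))
  have hda : d * a = a * d := cz_iff.1 (hSa hdS)
  have hy₁y : y₁ * y * y₁⁻¹ = d * a * y := by
    have h1 : y₁ = r * r₁⁻¹ * y := by rw [hy₁, hr₁]; group
    rw [h1, show r * r₁⁻¹ * y * y * (r * r₁⁻¹ * y)⁻¹ = r * r₁⁻¹ * (y * r₁ * y⁻¹) * (y * r⁻¹ * y⁻¹) * y by group,
      hr2, show y * r⁻¹ * y⁻¹ = r₁⁻¹ by rw [hr₁]; group, hd]
    have h2 : r₁⁻¹ * (r * a) = r * a * r₁⁻¹ := by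
      have e1 : Commute r₁ (r * a) := (show Commute r₁ r from hrr.symm).mul_right (cz_iff.1 (hSa hr₁S))
      exact e1.inv_left.eq
    have h3 : a * r₁⁻¹ = r₁⁻¹ * a := (cz_iff.1 (hSa (inv_mem hr₁S))).symm
    calc r * r₁⁻¹ * (r * a) * r₁⁻¹ * y = r * (r₁⁻¹ * (r * a)) * r₁⁻¹ * y := by group
      _ = r * r * (a * r₁⁻¹) * r₁⁻¹ * y := by rw [h2]; group
      _ = r * r * (r₁⁻¹ * a) * r₁⁻¹ * y := by rw [h3]
      _ = r * r * r₁⁻¹ * (a * r₁⁻¹) * y := by group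
      _ = r * r * r₁⁻¹ * (r₁⁻¹ * a) * y := by rw [h3]
      _ = _ := by group
  have hyd : y * d * y⁻¹ = d⁻¹ := by
    rw [hd, show y * (r * r * (r₁⁻¹ * r₁⁻¹)) * y⁻¹
        = (y * r * y⁻¹) * (y * r * y⁻¹) * ((y * r₁ * y⁻¹) * (y * r₁ * y⁻¹))⁻¹ by group, ← hr₁, hr2,
      show r * a * (r * a) = r * r by
        rw [mul_assoc, ← mul_assoc a, ← hra, mul_assoc r, haa, mul_one]]
    simp only [mul_inv_rev, inv_inv, mul_assoc]
  have hyda : d * d = 1 → d = b → False := fun _ h => by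
    have e : r * d = d * r := by
      have h1 : Commute r r₁ := hrr
      rw [hd]
      exact (((Commute.refl r).mul_right (Commute.refl r)).mul_right
        (h1.inv_right.mul_right h1.inv_right)).eq
    rw [h] at e
    rw [e, mul_inv_cancel_right] at hrb
    exact hJ.ne_one' (mul_eq_right.1 hrb.symm)
  have hqact : ∀ e ∈ bar b K, qt b a * e * (qt b a)⁻¹ = (qt b y)⁻¹ * e * qt b y := by
    intro e he
    have hyz : y ∈ cz b := hK.le hy
    have h1 : qt b a = qt b (a * y) * (qt b y)⁻¹ := by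
      rw [← qt_inv hyz, ← qt_mul (hK'.le hayK') (inv_mem hyz), mul_inv_cancel_right]
    have h2 := (mem_ctr_qt.1 (hK.ctr_other hK' hneK'.symm hayK')).2 ((qt b y)⁻¹ * e * qt b y)
      (mul_mem (mul_mem (inv_mem (qt_mem_bar hyz hy)) he) (qt_mem_bar hyz hy))
    rw [h1]
    calc qt b (a * y) * (qt b y)⁻¹ * e * (qt b (a * y) * (qt b y)⁻¹)⁻¹
        = qt b (a * y) * ((qt b y)⁻¹ * e * qt b y) * (qt b (a * y))⁻¹ := by group
      _ = _ := by rw [h2, mul_inv_cancel_right]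
  have hact : ∀ x ∈ K, x ∈ S → a * x * a⁻¹ = y⁻¹ * x * y := by
    intro x hx hxS
    have h1 := hK.commute hK' hneK'.symm hS (mul_mem (mul_mem (inv_mem hy) hx) hy) hayK'
      (mul_mem (mul_mem (inv_mem hyS) hxS) hyS) hayS
    calc a * x * a⁻¹ = a * y * (y⁻¹ * x * y) * (a * y)⁻¹ := by group
      _ = _ := by rw [← h1, mul_inv_cancel_right]
  -- `y₁` moves `K`
  have hy₁K : y₁ ∉ normalizer (K : Set G) := by
    intro h
    have hx : d * a ∈ K := by
      have := mul_mem ((mem_normalizer_iff.1 h y).1 hy) (inv_mem hy)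
      rwa [hy₁y, mul_inv_cancel_right] at this
    have h1 := hact _ hx (mul_mem hdS haS)
    rw [show a * (d * a) * a⁻¹ = d * a by rw [← mul_assoc, mul_inv_cancel_right, hda], mul_assoc,
      eq_inv_mul_iff_mul_eq] at h1
    have h2 : d⁻¹ * a = d * a := by
      rw [← hyd, show y * d * y⁻¹ * a = y * d * (y⁻¹ * a) by group,
        show y⁻¹ * a = a * y⁻¹ from ((show Commute y a from hya).inv_left).eq,
        show y * d * (a * y⁻¹) = y * (d * a) * y⁻¹ by group, h1, mul_inv_cancel_right]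
    have hdd : d * d = 1 := by
      nth_rewrite 1 [← mul_right_cancel h2]
      exact inv_mul_cancel d
    rcases hK.sq_cases hx (by rw [show d * a * (d * a) = d * (a * d) * a by group, ← hda,
        show d * (d * a) * a = d * d * (a * a) by group, hdd, haa, mul_one]) with h3 | h3
    · have hda' : d = a := by rw [eq_inv_of_mul_eq_one_left h3, hai]
      have h4 : r * r * (r₁⁻¹ * r₁⁻¹) = a := hd ▸ hda'
      have hmem : r * r ∈ cj y J := by
        have e : r * r = a * (r₁ * r₁) := by rw [← h4]; group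
        rw [e]
        have hJy : Intr m (cj y J) a := hJ.conj' (hSa hyS)
        exact mul_mem hJy.mem (mul_mem (hr₁ ▸ conj_mem_cj hrJ) (hr₁ ▸ conj_mem_cj hrJ))
      have hne : cj y J ≠ J := fun e => hyJ (mem_normalizer_of_cj e)
      have h5 := hJ.mem_inter (hJ.conj' (hSa hyS)) hne.symm (mul_mem hrJ hrJ) hmem
        (IsTwo.of_group hS (mul_mem hrS hrS))
      have h6 : r₁ * r₁ = r * r := by
        rw [hr₁, show y * r * y⁻¹ * (y * r * y⁻¹) = y * (r * r) * y⁻¹ by group]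
        rcases h5 with e | e <;> rw [e]
        · group
        · rw [hya, mul_inv_cancel_right]
      rw [← mul_inv_rev, h6, mul_inv_cancel] at h4
      exact hJ.ne_one' h4.symm
    · have e : r * (d * a) = d * a * r := by
        have h1 : Commute r r₁ := hrr
        rw [hd]
        exact ((((Commute.refl r).mul_right (Commute.refl r)).mul_right
          (h1.inv_right.mul_right h1.inv_right)).mul_right hra).eq
      rw [h3] at e
      rw [e, mul_inv_cancel_right] at hrb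
      exact hJ.ne_one' (mul_eq_right.1 hrb.symm)
  have hK₂ := hK.conj' (cz_iff.2 hy₁b : y₁ ∈ cz b)
  have hneK₂ : cj y₁ K ≠ K := fun h => hy₁K (mem_normalizer_of_cj h)
  have hy₂K₂ : d * a * y ∈ cj y₁ K := hy₁y ▸ conj_mem_cj hy
  have hay₂ : cj y₁ K = cj R K := by
    by_contra hne
    have h1 := hK₂.ctr_other hK hneK₂ hy
    have h2 := hK₂.ctr_other hK' hne hayK'
    have h3 := hK₂.ctr_map (mul_mem h2 (inv_mem h1)) y₁⁻¹
    rw [mul_inv_cancel_right, cj_cj, inv_mul_cancel, cj_one, inv_inv] at h3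
    rw [show y₁⁻¹ * b * y₁ = b by rw [mul_assoc, ← hy₁b, inv_mul_cancel_left],
      show y₁⁻¹ * a * y₁ = a by rw [mul_assoc, ← hy₁a, inv_mul_cancel_left]] at h3
    exact hac h3
  have hd1 : d = 1 := by
    have h1 := hK.commute hK₂ hneK₂.symm hS hy hy₂K₂ hyS (mul_mem (mul_mem hdS haS) hyS)
    have hdK : d ∈ cj y₁ K := by
      have := mul_mem hy₂K₂ (inv_mem (hay₂.symm ▸ hayK' : a * y ∈ cj y₁ K))
      rwa [show d * a * y * (a * y)⁻¹ = d by group] at this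
    have h2 : y * d = d * y := by
      have e : y * d * (a * y) = d * y * (a * y) := by
        calc y * d * (a * y) = y * (d * a * y) := by group
          _ = d * a * y * y := h1
          _ = d * (y * a) * y := by rw [hya]; group
          _ = _ := by group
      exact mul_right_cancel e
    rw [h2, mul_inv_cancel_right, eq_inv_iff_mul_eq_one] at hyd
    exact (hK₂.sq_cases hdK hyd).resolve_right (hyda hyd)
  rw [hd1, one_mul] at hy₁y
  -- the element `f`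
  set S₁ := S ⊓ cz b with hS₁
  have hbz : b ∈ cz b := hK.z_mem_cz
  have haz : a ∈ cz b := cz_iff.2 hab
  obtain ⟨S', f, g, hS', hS'b, hS₁S', hfS', hfK, hff, hgK, hfq, hfa⟩ :=
    exists_fusion (S₁ := S₁) hK haa hy hyy (hS.to_le inf_le_left) inf_le_right (inf_le_left.trans hSa)
      ⟨haS, haz⟩ ⟨hbS, hbz⟩ hqact
  have hy₁S' : y₁ ∈ S' := hS₁S' ⟨hy₁S, cz_iff.2 hy₁b⟩
  have hfb : f * b = b * f := hK.comm hfK
  have hfA : f * (a * b) * f⁻¹ = a := by
    rw [show f * (a * b) * f⁻¹ = f * a * f⁻¹ * (f * b * f⁻¹) by group, hfa, hfb, mul_inv_cancel_right,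
      mul_assoc, hbb, mul_one]
  have hAK : a * b ∈ normalizer (K : Set G) := mul_mem haK (le_normalizer hK.mem)
  have hfA' : f * (a * b) * f⁻¹ = b * (a * b) := by
    rw [hfA, hab, ← mul_assoc, hbb, one_mul]
  obtain ⟨-, hff', -, hFK₁, -, hFy₁⟩ := stage hK hK₁ hAK hS' hS'b hy₁K₁ hy₁S' hfK hfS' hy₁K hfA'
  obtain ⟨f', hf'⟩ : ∃ f', f' = y₁ * f * y₁⁻¹ := ⟨_, rfl⟩
  rw [← hf'] at hff' hFK₁ hFy₁
  have hf'K₂ : f' ∈ cj y₁ K := hf' ▸ conj_mem_cj hfK
  obtain ⟨F, hF⟩ : ∃ F, F = f * f' := ⟨_, rfl⟩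
  rw [← hF] at hFK₁ hFy₁
  have hy₁z : y₁ ∈ cz b := cz_iff.2 hy₁b
  have hfz : f ∈ cz b := hK.le hfK
  have hf'z : f' ∈ cz b := hK₂.le hf'K₂
  have hFb : F * b = b * F := cz_iff.1 (hF ▸ mul_mem hfz hf'z)
  have hFF : F * F = 1 := by
    rw [hF, show f * f' * (f * f') = f * (f' * f) * f' by group, ← hff',
      show f * (f * f') * f' = f * f * (f' * f') by group, hff, hf',
      show y₁ * f * y₁⁻¹ * (y₁ * f * y₁⁻¹) = y₁ * (f * f) * y₁⁻¹ by group, hff, hy₁b, mul_inv_cancel_right,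
      hbb]
  have hFa : F * a = a * F := by
    refine mul_inv_eq_iff_eq_mul.1 ?_
    rw [hF, show f * f' * a * (f * f')⁻¹ = f * (f' * a * f'⁻¹) * f⁻¹ by group, hf',
      show y₁ * f * y₁⁻¹ * a * (y₁ * f * y₁⁻¹)⁻¹ = y₁ * (f * (y₁⁻¹ * a * y₁) * f⁻¹) * y₁⁻¹ by group,
      show y₁⁻¹ * a * y₁ = a by rw [mul_assoc, ← hy₁a, inv_mul_cancel_left], hfa, ← mul_assoc y₁, hy₁a,
      mul_assoc a, hy₁b, ← mul_assoc a, mul_inv_cancel_right, hfA]
  -- `F` is intrinsic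
  obtain ⟨g₂, hg₂⟩ : ∃ g₂, g₂ = y₁ * g * y₁⁻¹ := ⟨_, rfl⟩
  have hg₂K₂ : g₂ ∈ cj y₁ K := hg₂ ▸ conj_mem_cj hgK
  have hgz : g ∈ cz b := hK.le hgK
  have hg₂z : g₂ ∈ cz b := hK₂.le hg₂K₂
  have hyz : y ∈ cz b := hK.le hy
  have hayz : a * y ∈ cz b := hK'.le hayK'
  have hA : a * b = y * (a * y) := by
    rw [← mul_assoc, hya, mul_assoc, hyy]
  have hswap : ∀ p q, p ∈ K → q ∈ cj y₁ K → qt b p * qt b q = qt b q * qt b p := fun p q hp hq =>
    ((mem_ctr_qt.1 (hK.ctr_other hK₂ hneK₂.symm hq)).2 _ (qt_mem_bar (hK.le hp) hp)).symm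
  have hcong : qt b (g * g₂ * (a * b) * (g * g₂)⁻¹) = qt b F := by
    rw [hA, qt_conj (mul_mem hgz hg₂z) (mul_mem hyz hayz), qt_mul hgz hg₂z, qt_mul hyz hayz]
    have e1 := hswap y g₂ hy hg₂K₂
    have e2 : Commute (qt b g) (qt b g₂ * qt b (a * y) * (qt b g₂)⁻¹) :=
      ((show Commute (qt b g) (qt b g₂) from hswap g g₂ hgK hg₂K₂).mul_right
        (hswap g (a * y) hgK (hay₂ ▸ hayK'))).mul_right (show Commute (qt b g) (qt b g₂) from
          hswap g g₂ hgK hg₂K₂).inv_right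
    have e3 : qt b g₂ * qt b (a * y) * (qt b g₂)⁻¹ = qt b f' := by
      rw [hg₂, ← hy₁y, qt_conj hy₁z hyz, qt_conj hy₁z hgz, hf', qt_conj hy₁z hfz, hfq, qt_conj hgz hyz]
      group
    calc qt b g * qt b g₂ * (qt b y * qt b (a * y)) * (qt b g * qt b g₂)⁻¹
        = qt b g * (qt b g₂ * qt b y) * (qt b (a * y) * (qt b g₂)⁻¹ * (qt b g)⁻¹) := by group
      _ = qt b g * qt b y * (qt b g₂ * qt b (a * y) * (qt b g₂)⁻¹ * (qt b g)⁻¹) := by rw [← e1]; group
      _ = qt b g * qt b y * ((qt b g)⁻¹ * (qt b g₂ * qt b (a * y) * (qt b g₂)⁻¹)) := by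
          rw [e2.inv_left.eq]
      _ = qt b f * qt b f' := by rw [e3, hfq, qt_conj hgz hyz]; group
      _ = qt b F := by rw [hF, qt_mul hfz hf'z]
  have hABz : a * b ∈ cz b := mul_mem haz hbz
  have hxz : g * g₂ * (a * b) * (g * g₂)⁻¹ ∈ cz b :=
    mul_mem (mul_mem (mul_mem hgz hg₂z) hABz) (inv_mem (mul_mem hgz hg₂z))
  obtain ⟨w, hw⟩ := conj_of_cong (z := b) (x := g * g₂ * (a * b) * (g * g₂)⁻¹) (y := F)
    (by rw [show g * g₂ * (a * b) * (g * g₂)⁻¹ * (g * g₂ * (a * b) * (g * g₂)⁻¹) =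
        g * g₂ * (a * b * (a * b)) * (g * g₂)⁻¹ by group, hK₁.sq, mul_one, mul_inv_cancel]) hFF
    ((qt_congr (hF ▸ mul_mem hfz hf'z) hxz).1 hcong.symm)
  have hL : Intr m (cj (w * (g * g₂)) (cj r K)) F := by
    have := hK₁.conj (w * (g * g₂))
    rwa [show w * (g * g₂) * (a * b) * (w * (g * g₂))⁻¹ = w * (g * g₂ * (a * b) * (g * g₂)⁻¹) * w⁻¹ by group,
      ← hw] at this
  -- conclusion
  have hf'c : f' ∈ ctr b K := hK.ctr_other hK₂ hneK₂.symm hf'K₂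
  have hFK : F ∉ ctr b K := by
    intro h
    have h1 := mul_mem h (inv_mem hf'c)
    rw [hF, mul_inv_cancel_right] at h1
    rcases hK.ctr_self hfK (IsTwo.of_group hS' hfS') h1 with e | e
    · exact hK.ne_one' (by rw [← hff, e, one_mul])
    · exact hK.ne_one' (by rw [← hff, e, hbb])
  have hfF : f * F = F * f := by rw [hF, hff', ← mul_assoc, hff', mul_assoc]
  refine no_three hK hK₁ hL haa hab hFa hFb hFK hFK₁ hfF hfA hy₁K₁ hy₁a hy₁b ?_
  rw [hFy₁, ← mul_assoc, hy₁b, mul_assoc, hy₁sq, hab, ← mul_assoc, hbb, one_mul]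

end Cfsg.Agent.Intrinsic
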