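import Cfsg.Agent.Lib.Intrinsic.Triv
import Cfsg.Agent.Lib.BrauerSuzuki.ZStar
import Cfsg.Agent.Lib.Components.PTerminalFrame

/-!
Technical facts on intrinsic 2-components: lifting from `C(z)/O(C(z))`, fusion from Glauberman's theorem,
2-elements of one component.
-/

set_option autoImplicit false
set_option linter.style.haveILetI false
set_option linter.unusedSectionVars false

namespace Cfsg.Agent.Intrinsic

open Subgroup Cfsg Cfsg.Agent.Components Cfsg.Agent.BpBalance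
open scoped commutatorElement

universe u

variable {G : Type u} [Group G] [Finite G]

open Classical in
/-- The image in `C(z)/O(C(z))`, set to one outside `C(z)`. -/
noncomputable def qt (z x : G) : ↥(cz z) ⧸ oddCore ↥(cz z) :=
  if h : x ∈ cz z then qz z ⟨x, h⟩ else 1

theorem qt_of {z x : G} (h : x ∈ cz z) : qt z x = qz z ⟨x, h⟩ := dif_pos h

theorem qt_mul {z x y : G} (hx : x ∈ cz z) (hy : y ∈ cz z) : qt z (x * y) = qt z x * qt z y := by
  rw [qt_of hx, qt_of hy, qt_of (mul_mem hx hy), ← map_mul]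
  rfl

theorem qt_inv {z x : G} (hx : x ∈ cz z) : qt z x⁻¹ = (qt z x)⁻¹ := by
  rw [qt_of hx, qt_of (inv_mem hx), ← map_inv]
  rfl

theorem qt_one (z : G) : qt z 1 = 1 := by
  rw [qt_of (one_mem _)]
  exact map_one _

theorem qt_conj {z x y : G} (hx : x ∈ cz z) (hy : y ∈ cz z) :
    qt z (x * y * x⁻¹) = qt z x * qt z y * (qt z x)⁻¹ := by
  rw [qt_mul (mul_mem hx hy) (inv_mem hx), qt_mul hx hy, qt_inv hx]

theorem qt_eq_one {z x : G} (hx : x ∈ cz z) : qt z x = 1 ↔ x ∈ core z := by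
  rw [qt_of hx, qz_eq_one]

theorem qt_congr {z x y : G} (hx : x ∈ cz z) (hy : y ∈ cz z) : qt z x = qt z y ↔ x * y⁻¹ ∈ core z := by
  rw [← qt_eq_one (mul_mem hx (inv_mem hy)), qt_mul hx (inv_mem hy), qt_inv hy, mul_inv_eq_one]

/-- Elements of one 2-group with the same image are equal. -/
theorem qt_exact {S : Subgroup G} (hS : IsPGroup 2 S) {z x y : G} (hx : x ∈ cz z) (hy : y ∈ cz z)
    (hxS : x ∈ S) (hyS : y ∈ S) (h : qt z x = qt z y) : x = y :=
  isTwo_mem hS hxS hyS ((qt_congr hx hy).1 h)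

theorem qt_mem_bar {z x : G} {K : Subgroup G} (hx : x ∈ cz z) (hk : x ∈ K) : qt z x ∈ bar z K := by
  rw [qt_of hx]
  exact mem_map_of_mem _ (show (⟨x, hx⟩ : ↥(cz z)) ∈ K.subgroupOf (cz z) from hk)

theorem exists_of_bar {z : G} {K : Subgroup G} {d : ↥(cz z) ⧸ oddCore ↥(cz z)} (h : d ∈ bar z K) :
    ∃ k ∈ K, k ∈ cz z ∧ qt z k = d := by
  obtain ⟨k, hk, rfl⟩ := h
  exact ⟨k, hk, k.2, qt_of k.2⟩

theorem mem_ctr_qt {z x : G} {K : Subgroup G} :
    x ∈ ctr z K ↔ x ∈ cz z ∧ ∀ d ∈ bar z K, qt z x * d = d * qt z x := by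
  rw [mem_ctr]
  constructor
  · rintro ⟨h, hc⟩
    exact ⟨h, fun d hd => by rw [qt_of h]; exact (mem_centralizer_iff.1 hc d hd).symm⟩
  · rintro ⟨h, hc⟩
    exact ⟨h, mem_centralizer_iff.2 fun d hd => by rw [← qt_of h]; exact (hc d hd).symm⟩

theorem core_conj (g : G) {z c : G} (h : c ∈ core z) : g * c * g⁻¹ ∈ core (g * z * g⁻¹) := by
  haveI : Fact (Nat.Prime 2) := ⟨Nat.prime_two⟩
  obtain ⟨x, hx, rfl⟩ := h
  let e : ↥(cz z) ≃* ↥(cz (g * z * g⁻¹)) :=
    (equivMapOfInjective (cz z) _ (MulAut.conj g).injective).trans (MulEquiv.subgroupCongr (cz_conj g z))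
  exact ⟨e x, (FittingCores.pPrimeCore_map_equiv 2 e).le (mem_map_of_mem _ hx), rfl⟩

theorem zpowers_isTwo {x : G} (h : IsTwo x) : IsPGroup 2 (zpowers x) := by
  rintro ⟨_, i, rfl⟩
  obtain ⟨k, hk⟩ := h
  refine ⟨k, Subtype.ext ?_⟩
  show (x ^ i) ^ 2 ^ k = 1
  rw [← zpow_natCast, ← zpow_mul, mul_comm, zpow_mul, zpow_natCast, hk, one_zpow]

theorem IsTwo.of_mul_self {x : G} (h : x * x = 1) : IsTwo x := ⟨1, by rw [pow_one, pow_two, h]⟩

theorem IsTwo.exists_orderOf {x : G} (h : IsTwo x) (h1 : x ≠ 1) : ∃ j, orderOf x = 2 ^ (j + 1) := by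
  obtain ⟨k, hk⟩ := h
  obtain ⟨i, -, hi⟩ := (Nat.dvd_prime_pow Nat.prime_two).1 (orderOf_dvd_of_pow_eq_one hk)
  rcases i with _ | i
  · exact absurd (orderOf_eq_one_iff.1 (by rw [hi, pow_zero])) h1
  · exact ⟨i, hi⟩

/-- An odd power of any element is a 2-element. -/
theorem exists_odd_two (x : G) : ∃ n : ℕ, Odd n ∧ IsTwo (x ^ n) := by
  have h0 : orderOf x ≠ 0 := (orderOf_pos x).ne'
  refine ⟨orderOf x / 2 ^ (orderOf x).factorization 2, Nat.odd_iff.2 ?_, (orderOf x).factorization 2, ?_⟩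
  · have := Nat.not_dvd_ordCompl Nat.prime_two h0
    omega
  · rw [← pow_mul, mul_comm, Nat.ordProj_mul_ordCompl_eq_self, pow_orderOf_eq_one]

/-- Congruent involutions are conjugate. -/
theorem conj_of_cong {z x y : G} (hx : x * x = 1) (hy : y * y = 1) (h : y * x⁻¹ ∈ core z) :
    ∃ w : G, y = w * x * w⁻¹ := by
  set u := y * x⁻¹ with hu
  have hxi : x⁻¹ = x := inv_eq_of_mul_eq_one_right hx
  have hyi : y⁻¹ = y := inv_eq_of_mul_eq_one_right hy
  obtain ⟨j, hj⟩ : Odd (orderOf u) :=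
    Nat.coprime_two_right.1 (Cfsg.Agent.PBasic.coprime_orderOf_of_mem (core_coprime z) h)
  refine ⟨u ^ (j + 1), ?_⟩
  have hux : x * u * x⁻¹ = u⁻¹ := by
    rw [hu, mul_inv_rev, inv_inv, hyi, hxi]
    simp only [mul_assoc, hx, mul_one]
  have h1 : x * (u ^ (j + 1))⁻¹ * x⁻¹ = u ^ (j + 1) := by
    rw [← inv_inj]
    simp only [mul_inv_rev, inv_inv, ← mul_assoc]
    rw [← inv_pow, ← hux, conj_pow]
  have h2 : u ^ (j + 1) * u ^ (j + 1) = u := by
    rw [← pow_add, show j + 1 + (j + 1) = 2 * j + 1 + 1 by ring, pow_succ, ← hj, pow_orderOf_eq_one, one_mul]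
  calc y = u * x := by rw [hu, inv_mul_cancel_right]
    _ = u ^ (j + 1) * (x * (u ^ (j + 1))⁻¹ * x⁻¹) * x := by rw [h1, h2]
    _ = _ := by group

/-- Lifting a normalizing element of a 2-subgroup from `C(z)/O(C(z))`. -/
theorem exists_lift {z x : G} (hx : x ∈ cz z) (T : Set G) {S : Subgroup G} (hS : IsPGroup 2 S)
    (hTS : closure T ≤ S) (hTz : closure T ≤ cz z)
    (h : ∀ t ∈ T, ∃ t' ∈ closure T, qt z (x * t * x⁻¹) = qt z t') :
    ∃ f ∈ cz z, f ∈ normalizer (closure T : Set G) ∧ qt z f = qt z x ∧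
      ∀ t ∈ closure T, ∀ t' ∈ closure T, qt z (x * t * x⁻¹) = qt z t' → f * t * f⁻¹ = t' := by
  haveI : Fact (Nat.Prime 2) := ⟨Nat.prime_two⟩
  set W := closure T with hW
  set W' := W.subgroupOf (cz z) with hW'
  have hP : IsPGroup 2 ↥W' := (hS.to_le hTS).comap_of_injective _ (cz z).subtype_injective
  have hgen : ∀ t ∈ W, ∃ t' ∈ W, qt z (x * t * x⁻¹) = qt z t' := by
    intro t ht
    induction ht using closure_induction with
    | mem t ht => exact h t ht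
    | one => exact ⟨1, one_mem _, by rw [mul_one, mul_inv_cancel]⟩
    | mul a b ha hb iha ihb =>
      obtain ⟨a', ha', ea⟩ := iha
      obtain ⟨b', hb', eb⟩ := ihb
      refine ⟨a' * b', mul_mem ha' hb', ?_⟩
      rw [qt_conj hx (mul_mem (hTz ha) (hTz hb)), qt_mul (hTz ha) (hTz hb), qt_mul (hTz ha') (hTz hb'),
        ← ea, ← eb, qt_conj hx (hTz ha), qt_conj hx (hTz hb)]
      group
    | inv a ha iha =>
      obtain ⟨a', ha', ea⟩ := iha
      refine ⟨a'⁻¹, inv_mem ha', ?_⟩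
      rw [qt_conj hx (inv_mem (hTz ha)), qt_inv (hTz ha), qt_inv (hTz ha'), ← ea, qt_conj hx (hTz ha)]
      group
  have hn : qz z ⟨x, hx⟩ ∈ normalizer ((W'.map (qz z) : Subgroup _) : Set _) := by
    refine mem_normalizer_fintype ?_
    rintro _ ⟨⟨t, htz⟩, ht, rfl⟩
    obtain ⟨t', ht', e⟩ := hgen t ht
    refine ⟨⟨t', hTz ht'⟩, ht', ?_⟩
    rw [← qt_of (hTz ht'), ← e, qt_conj hx htz, qt_of hx, qt_of htz]
  rw [← map_normalizer_eq (FittingCores.pPrimeCore_coprime (G := ↥(cz z)) 2) hP] at hn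
  obtain ⟨g, hg, hgx⟩ := hn
  have hgx' : qt z g = qt z x := by rw [qt_of g.2, qt_of hx]; exact hgx
  have hgW : ∀ t, t ∈ W → (g : G) * t * (g : G)⁻¹ ∈ W := fun t ht =>
    ((mem_normalizer_iff.1 hg ⟨t, hTz ht⟩).1 ht :)
  refine ⟨g, g.2, mem_normalizer_fintype hgW, hgx', fun t ht t' ht' e => ?_⟩
  refine qt_exact hS (hTz (hgW t ht)) (hTz ht') (hTS (hgW t ht)) (hTS ht') ?_
  rw [← e, qt_conj g.2 (hTz ht), hgx', qt_conj hx (hTz ht)]

/-- Two different 2-components commute modulo the core. -/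
theorem pcin_commutator {H D E : Subgroup G} (hD : PCIn 2 D H) (hE : PCIn 2 E H) (hne : D ≠ E) {d e : G}
    (hd : d ∈ D) (he : e ∈ E) : d * e * d⁻¹ * e⁻¹ ∈ (oddCore ↥H).map H.subtype ∧ d * e * d⁻¹ * e⁻¹ ∈ E := by
  haveI : Fact (Nat.Prime 2) := ⟨Nat.prime_two⟩
  have hne' : D.subgroupOf H ≠ E.subgroupOf H := fun h => hne (by
    have := congrArg (Subgroup.map H.subtype) h
    rwa [map_subgroupOf_eq_of_le hD.le, map_subgroupOf_eq_of_le hE.le] at this)
  have h := pComponent_commutator_le hD.toComp hE.toComp hne'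
    (commutator_mem_commutator (show (⟨d, hD.le hd⟩ : ↥H) ∈ D.subgroupOf H from hd)
      (show (⟨e, hE.le he⟩ : ↥H) ∈ E.subgroupOf H from he))
  exact ⟨⟨_, h.2, rfl⟩, h.1.2⟩

namespace Intr

variable {m : ℕ} {K : Subgroup G} {z : G}

theorem z_ctr (hK : Intr m K z) : z ∈ ctr z K :=
  (mem_ctr_comm hK.le).2 ⟨hK.z_mem_cz, fun k hk => by
    rw [← hK.comm hk, mul_inv_cancel_right, mul_inv_cancel]
    exact one_mem _⟩

theorem ctr_le_normalizer (hK : Intr m K z) : ctr z K ≤ normalizer (K : Set G) := fun x hx => by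
  obtain ⟨h, hc⟩ := mem_ctr.1 hx
  exact hK.normalizer_of_bar h (centralizer_le_normalizer _ hc)

theorem ctr_map (hK : Intr m K z) {x : G} (hx : x ∈ ctr z K) (g : G) :
    g * x * g⁻¹ ∈ ctr (g * z * g⁻¹) (cj g K) := by
  obtain ⟨h1, h2⟩ := (mem_ctr_comm hK.le).1 hx
  refine (mem_ctr_comm (hK.conj g).le).2 ⟨?_, fun k hk => ?_⟩
  · rw [← cz_conj]
    exact ⟨x, h1, rfl⟩
  · have := core_conj g (h2 _ (mem_cj.1 hk))
    rwa [show g * x * g⁻¹ * k * (g * x * g⁻¹)⁻¹ * k⁻¹ =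
      g * (x * (g⁻¹ * k * g) * x⁻¹ * (g⁻¹ * k * g)⁻¹) * g⁻¹ by group]

theorem ctr_conj_mem (hK : Intr m K z) {g x : G} (hg : g ∈ normalizer (K : Set G)) (hx : x ∈ ctr z K) :
    g * x * g⁻¹ ∈ ctr z K := by
  have := hK.ctr_map hx g
  rwa [cj_of_mem hg, hK.cz_of_normalizer hg, mul_inv_cancel_right] at this

theorem z_pow (hK : Intr m K z) {x : G} (hx : x ∈ K) (ht : IsTwo x) (h1 : x ≠ 1) :
    ∃ j, z = x ^ 2 ^ j ∧ orderOf x = 2 ^ (j + 1) := by
  obtain ⟨j, hj⟩ := ht.exists_orderOf h1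
  refine ⟨j, (hK.uniq _ (pow_mem hx _) ?_).symm, hj⟩
  rw [orderOf_pow' x (Nat.two_pow_pos j).ne', hj, Nat.gcd_eq_right (pow_dvd_pow 2 (Nat.le_succ j)),
    Nat.pow_div (Nat.le_succ j) (by norm_num)]
  simp

/-- An element centralizing a 2-element of `K` of order at least four normalizes `K`. -/
theorem normalizer_of_commute (hK : Intr m K z) {x g : G} (hx : x ∈ K) (ht : IsTwo x) (h1 : x ≠ 1)
    (h2 : x ≠ z) (hg : g * x = x * g) : g ∈ normalizer (K : Set G) := by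
  obtain ⟨j, hj, -⟩ := hK.z_pow hx ht h1
  have hgz : g ∈ cz z := cz_iff.2 (by rw [hj]; exact (show Commute g x from hg).pow_right _)
  refine mem_normalizer_of_cj ?_
  by_contra hne
  have hx' : x ∈ cj g K := by
    have := conj_mem_cj (g := g) hx
    rwa [hg, mul_inv_cancel_right] at this
  rcases (hK.conj' hgz).mem_inter hK hne hx' hx ht with h | h
  · exact h1 h
  · exact h2 h

theorem exists_four (hK : Intr m K z) {P : Subgroup G} (hP : PTerm.IsSyl 2 P K) : ∃ e ∈ P, e * e = z := by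
  haveI : Fact (Nat.Prime 2) := ⟨Nat.prime_two⟩
  have h4 : 4 ∣ Nat.card P := by
    have h := hK.four
    rw [← Cfsg.Agent.PBasic.card_mul_relIndex hP.le] at h
    exact (Nat.Coprime.pow_left 2 (Nat.prime_two.coprime_iff_not_dvd.2 hP.index)).dvd_of_dvd_mul_right h
  obtain ⟨x, hx, h1, h2⟩ : ∃ x ∈ P, x ≠ 1 ∧ x ≠ z := by
    by_contra hcon
    push_neg at hcon
    have hle : (P : Set G) ⊆ {1, z} := fun x hx => by
      by_cases h : x = 1
      · exact Or.inl h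
      · exact Or.inr (hcon x hx h)
    have := (Set.ncard_le_ncard hle).trans (Set.ncard_insert_le _ _)
    rw [Set.ncard_singleton, ← Nat.card_coe_set_eq] at this
    have hpos : 0 < Nat.card P := Nat.card_pos
    have hc : Nat.card ↥(P : Set G) = Nat.card P := rfl
    have := Nat.le_of_dvd hpos h4
    omega
  obtain ⟨j, hj, -⟩ := hK.z_pow (hP.le hx) (IsTwo.of_group hP.pgroup hx) h1
  rcases j with _ | j
  · exact absurd (by rw [hj, pow_zero, pow_one]) h2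
  · exact ⟨x ^ 2 ^ j, pow_mem hx _, by rw [hj, ← pow_add]; ring_nf⟩

theorem bar_invol (hK : Intr m K z) {c : ↥(cz z) ⧸ oddCore ↥(cz z)} (hc : c ∈ bar z K) (h2 : c * c = 1) :
    c = 1 ∨ c = qt z z := by
  obtain ⟨k, hk, hkz, rfl⟩ := exists_of_bar hc
  let φ := (qz z).comp (inclusion hK.le)
  obtain ⟨y, -, hy, j, hj⟩ := exists_two_preimage φ (k := 1) (d := qt z k)
    (by rw [pow_one, pow_two]; exact h2) ⟨k, hk⟩ (qt_of hkz).symm
  have hy' : qt z y = qt z k := by rw [qt_of (hK.le y.2)]; exact hy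
  have htwo : IsTwo (y : G) := ⟨j, congrArg Subtype.val hj⟩
  have hyy : (y : G) * y = 1 := by
    refine exact_one (zpowers_isTwo htwo) (mul_mem (mem_zpowers _) (mem_zpowers _)) ((qt_eq_one
      (mul_mem (hK.le y.2) (hK.le y.2))).1 ?_)
    rw [qt_mul (hK.le y.2) (hK.le y.2), hy', h2]
  rcases hK.sq_cases y.2 hyy with h | h <;> rw [← hy', h]
  · exact Or.inl (qt_one z)
  · exact Or.inr rfl

theorem qt_z_sq (hK : Intr m K z) : qt z z * qt z z = 1 := by
  rw [← qt_mul hK.z_mem_cz hK.z_mem_cz, hK.sq, qt_one]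

theorem qt_z_comm (hK : Intr m K z) {x : G} (hx : x ∈ cz z) : qt z z * qt z x = qt z x * qt z z := by
  rw [← qt_mul hK.z_mem_cz hx, ← qt_mul hx hK.z_mem_cz, cz_iff.1 hx]

end Intr

end Cfsg.Agent.Intrinsic
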