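import Cfsg.Agent.Lib.Intrinsic.Component

/-!
Two basic facts: an involution centralizing an intrinsic component forces the reverse centralization, and an
involution moving one gives a diagonal component.
-/

set_option autoImplicit false
set_option linter.style.haveILetI false
set_option linter.unusedSectionVars false

namespace Cfsg.Agent.Intrinsic

open Subgroup Cfsg Cfsg.Agent.Components Cfsg.Agent.BpBalance
open scoped commutatorElement

universe u

variable {G : Type u} [Group G] [Finite G]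

namespace Intr

variable {m : ℕ} {K : Subgroup G} {z : G}

theorem four_dvd (hK : Intr m K z) : 4 ∣ m := by
  haveI : Fact (Nat.Prime 2) := ⟨Nat.prime_two⟩
  have h := hK.four
  rw [Subgroup.card_eq_card_quotient_mul_card_subgroup (oddCore ↥K), hK.size] at h
  exact (Nat.Coprime.pow_left 2 (FittingCores.pPrimeCore_coprime (G := ↥K) 2).symm).dvd_of_dvd_mul_right h

theorem centre_index (hK : Intr m K z) : (center ↥(bar z K)).index * 2 = m := by
  rw [← hK.bar_card, ← card_mul_index (center ↥(bar z K)), hK.bar_centre_card, mul_comm]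

theorem bar_odd (hK : Intr m K z) (N : Subgroup ↥(bar z K)) (hN : N.Normal)
    (hodd : (Nat.card N).Coprime 2) : N = ⊥ := by
  haveI := hN
  rcases quasisimple_normal hK.bar_comp.2 N with h | h
  · exfalso
    rw [h, card_top, hK.bar_card] at hodd
    have h4 := hK.four_dvd
    have : 2 ∣ m := dvd_trans (by norm_num) h4
    exact Nat.prime_two.coprime_iff_not_dvd.1 hodd.symm this
  · have hd : Nat.card N ∣ 2 := hK.bar_centre_card ▸ card_dvd_of_le h
    exact eq_bot_of_card_eq _ (Nat.eq_one_of_dvd_coprimes hodd dvd_rfl hd)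

theorem bar_gen (hK : Intr m K z) : bar z K ≤ pGen 2 (bar z K) := by
  haveI : Fact (Nat.Prime 2) := ⟨Nat.prime_two⟩
  exact (component_pGen (pPrimeCore_quotient ↥(cz z)) hK.bar_comp).ge

theorem bar_cj (hK : Intr m K z) {g : G} (hg : g ∈ cz z) :
    bar z (cj g K) = (bar z K).map (MulAut.conj (qz z ⟨g, hg⟩)).toMonoidHom := by
  apply le_antisymm
  · rintro _ ⟨⟨x, hxz⟩, hx, rfl⟩
    have hx' : g⁻¹ * x * g ∈ K := mem_cj.1 (mem_subgroupOf.1 hx)
    refine ⟨qz z ⟨g⁻¹ * x * g, hK.le hx'⟩, mem_map_of_mem _ hx', ?_⟩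
    show qz z ⟨g, hg⟩ * qz z ⟨g⁻¹ * x * g, _⟩ * (qz z ⟨g, hg⟩)⁻¹ = _
    rw [← map_inv, ← map_mul, ← map_mul]
    exact congrArg _ (Subtype.ext (by simp [mul_assoc]))
  · rintro _ ⟨_, ⟨k, hk, rfl⟩, rfl⟩
    refine ⟨⟨g, hg⟩ * k * ⟨g, hg⟩⁻¹, show g * (k : G) * g⁻¹ ∈ cj g K from conj_mem_cj hk, ?_⟩
    simp [map_mul, map_inv]

theorem normalizer_of_bar (hK : Intr m K z) {g : G} (hg : g ∈ cz z)
    (h : qz z ⟨g, hg⟩ ∈ normalizer (bar z K : Set _)) : g ∈ normalizer (K : Set G) := by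
  refine mem_normalizer_of_cj ?_
  by_contra hne
  refine (hK.conj' hg).bar_ne hK hne ?_
  rw [hK.bar_cj hg]
  ext x
  constructor
  · rintro ⟨y, hy, rfl⟩
    exact (mem_normalizer_iff.1 h y).1 hy
  · intro hx
    exact ⟨_, (mem_normalizer_iff''.1 h x).1 hx, by simp [mul_assoc]⟩

/-- An involution inducing on `K` only central changes centralizes it. -/
theorem ctr_of_central (hK : Intr m K z) {w : G} (hw : w ∈ cz z) (hw2 : w * w = 1)
    (h : ∀ k ∈ K, k⁻¹ * (w * k * w⁻¹) ∈ ctr z K) : w ∈ ctr z K := by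
  set A := bar z K
  set s := qz z ⟨w, hw⟩
  have hs2 : s * s = 1 := by
    rw [← map_mul, show (⟨w, hw⟩ : ↥(cz z)) * ⟨w, hw⟩ = 1 from Subtype.ext hw2, map_one]
  have hmem : ∀ x ∈ zpowers s, x = 1 ∨ x = s := by
    rintro _ ⟨i, rfl⟩
    obtain ⟨j, rfl⟩ | ⟨j, rfl⟩ := Int.even_or_odd i
    · left; simp only [← two_mul, zpow_mul, zpow_two, hs2, one_zpow]
    · right; simp only [zpow_add, zpow_mul, zpow_two, hs2, one_zpow, zpow_one, one_mul]
  have h1 : ⁅A, zpowers s⁆ ≤ centralizer (A : Set _) := by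
    rw [commutator_le]
    rintro _ ⟨⟨k, hkz⟩, hk, rfl⟩ x hx
    rcases hmem x hx with rfl | rfl
    · simp
    · obtain ⟨h', hc⟩ := mem_ctr.1 (h k⁻¹ (inv_mem (mem_subgroupOf.1 hk)))
      rw [show ⁅qz z ⟨k, hkz⟩, s⁆ = qz z ⟨_, h'⟩ from ?_]
      · exact hc
      rw [← map_commutatorElement]
      refine congrArg _ (Subtype.ext ?_)
      simp [commutatorElement_def, mul_assoc]
  have h2 := commute_of_commutator_central (component_commutator_eq hK.bar_comp) h1
  rw [commutator_comm, commutator_eq_bot_iff_le_centralizer] at h2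
  exact mem_ctr.2 ⟨hw, h2 (mem_zpowers _)⟩

end Intr

/-- If `b` centralizes `J` modulo the core then `a` centralizes `K` modulo the core. -/
theorem triv {m : ℕ} {J K : Subgroup G} {a b : G} (hJ : Intr m J a) (hK : Intr m K b) (hb : b ∈ ctr a J) :
    a ∈ normalizer (K : Set G) ∧ a ∈ ctr b K ∧
      ∀ x ∈ J, IsTwo x → x * b = b * x → x ∈ normalizer (K : Set G) := by
  haveI : Fact (Nat.Prime 2) := ⟨Nat.prime_two⟩
  obtain ⟨hba, hbc⟩ := mem_ctr.1 hb
  have hc : bar a J ≤ centralizer ({qz a ⟨b, hba⟩} : Set _) := fun x hx =>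
    mem_centralizer_singleton_iff.2 (mem_centralizer_iff.1 hbc x hx)
  obtain ⟨D, hD⟩ := exists_cov hba (IsTwo.of_orderOf hK.ord) (bar a J) hc hJ.bar_comp.1.subgroupOf
    hJ.bar_comp.2 hJ.bar_gen hJ.bar_odd
  have hab : a ∈ cz b := cz_iff.2 (cz_iff.1 hba).symm
  have ha2 : IsTwo a := IsTwo.of_orderOf hJ.ord
  have hn := le_normalizer_comp hD.comp hab ha2 hK
  have hbarJ : ∀ (x : G) (hx : x ∈ J), qz a ⟨x, hJ.le hx⟩ ∈ bar a J := fun x hx =>
    mem_map_of_mem _ (show (⟨x, hJ.le hx⟩ : ↥(cz a)) ∈ J.subgroupOf (cz a) from hx)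
  have hx : ∀ x ∈ J, IsTwo x → x * b = b * x → x ∈ D := fun x hx ht hxb =>
    hD.contains x (hJ.le hx) (cz_iff.2 hxb) ht (hbarJ x hx)
  have haD : a ∈ D := hx a hJ.mem ha2 (cz_iff.1 hba).symm
  refine ⟨hn haD, ?_, fun x h1 h2 h3 => hn (hx x h1 h2 h3)⟩
  rcases hD.cases hJ.bar_comp.2 hab ha2 hK hJ.centre_index with h | ⟨h, -⟩
  · exact h haD
  · refine h a hJ.z_mem_cz haD (mem_center_iff.2 ?_)
    rintro ⟨_, k, hk, rfl⟩
    refine Subtype.ext ?_
    show qz a k * qz a _ = qz a _ * qz a k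
    rw [← map_mul, ← map_mul]
    exact congrArg _ (Subtype.ext (hJ.comm (mem_subgroupOf.1 hk)))

/-- The diagonal component attached to an involution moving `J`. -/
theorem exists_diag {m : ℕ} {J : Subgroup G} {a t : G} (hJ : Intr m J a) (ht : t ∈ cz a) (ht2 : t * t = 1)
    (hne : cj t J ≠ J) :
    ∃ (D : Subgroup G) (Δ : Subgroup (↥(cz a) ⧸ oddCore ↥(cz a))),
      Cov a t D Δ ∧ IsQuasisimple ↥Δ ∧ (center ↥Δ).index * 2 = m ∧
      (∀ d ∈ Δ, ∃ k ∈ bar a J, d = k * (qz a ⟨t, ht⟩ * k * (qz a ⟨t, ht⟩)⁻¹)) ∧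
      (∀ k ∈ bar a J, k * (qz a ⟨t, ht⟩ * k * (qz a ⟨t, ht⟩)⁻¹) ∈ Δ) ∧
      (∀ e ∈ J, IsTwo (e * (t * e * t⁻¹)) → (e * (t * e * t⁻¹)) * t = t * (e * (t * e * t⁻¹)) →
        e * (t * e * t⁻¹) ∈ D) ∧
      D ≤ normalizer (J : Set G) := by
  classical
  haveI : Fact (Nat.Prime 2) := ⟨Nat.prime_two⟩
  set A := bar a J with hA
  have hJ' := hJ.conj' ht
  set B := bar a (cj t J) with hB
  set s := qz a ⟨t, ht⟩ with hs
  have hs2 : s * s = 1 := by
    rw [hs, ← map_mul, show (⟨t, ht⟩ : ↥(cz a)) * ⟨t, ht⟩ = 1 from Subtype.ext ht2, map_one]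
  have hsi : s⁻¹ = s := inv_eq_of_mul_eq_one_right hs2
  have hAB : B = A.map (MulAut.conj s).toMonoidHom := hJ.bar_cj ht
  have hBA : B ≤ centralizer (A : Set _) := hJ.bar_commute hJ' hne.symm
  have hcomm : ∀ x ∈ A, ∀ y ∈ B, x * y = y * x := fun x hx y hy => mem_centralizer_iff.1 (hBA hy) x hx
  have hsB : ∀ x ∈ A, s * x * s⁻¹ ∈ B := fun x hx => hAB.ge ⟨x, hx, rfl⟩
  have hsA : ∀ y ∈ B, s * y * s⁻¹ ∈ A := by
    intro y hy
    obtain ⟨x, hx, rfl⟩ := hAB.le hy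
    have e : s * (s * x * s⁻¹) * s⁻¹ = x := by
      rw [hsi, show s * (s * x * s) * s = (s * s) * x * (s * s) by group, hs2, one_mul, mul_one]
    exact e.symm ▸ hx
  let δ : ↥A →* ↥(cz a) ⧸ oddCore ↥(cz a) :=
    { toFun := fun k => k * (s * k * s⁻¹)
      map_one' := by simp
      map_mul' := fun k l => by
        calc ((k * l : ↥A) : ↥(cz a) ⧸ oddCore ↥(cz a)) * (s * ((k * l : ↥A) : _) * s⁻¹)
            = (k : _) * ((l : _) * (s * k * s⁻¹)) * (s * l * s⁻¹) := by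
              rw [Subgroup.coe_mul]; group
          _ = (k : _) * ((s * k * s⁻¹) * (l : _)) * (s * l * s⁻¹) := by rw [hcomm _ l.2 _ (hsB _ k.2)]
          _ = _ := by group }
  set Δ := δ.range with hΔ
  have hΔAB : Δ ≤ A ⊔ B := by
    rintro _ ⟨k, rfl⟩
    exact mul_mem (mem_sup_left k.2) (mem_sup_right (hsB _ k.2))
  set C := centralizer ({s} : Set (↥(cz a) ⧸ oddCore ↥(cz a))) with hC
  have hΔC : Δ ≤ C := by
    rintro _ ⟨k, rfl⟩
    rw [hC, mem_centralizer_singleton_iff]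
    show (k : _) * (s * k * s⁻¹) * s = s * ((k : _) * (s * k * s⁻¹))
    calc (k : ↥(cz a) ⧸ oddCore ↥(cz a)) * (s * k * s⁻¹) * s = (s * k * s⁻¹) * k * s := by
          rw [hcomm _ k.2 _ (hsB _ k.2)]
      _ = _ := by
          rw [hsi]
          simp only [mul_assoc]
  have hABn : layer (↥(cz a) ⧸ oddCore ↥(cz a)) ≤ normalizer ((A ⊔ B : Subgroup _) : Set _) := by
    intro x hx
    exact Subgroup.normalizer_inf_normalizer_le_normalizer_sup A B
      ⟨layer_le_normalizer_component hJ.bar_comp hx, layer_le_normalizer_component hJ'.bar_comp hx⟩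
  have hABs : (A ⊔ B).IsSubnormal := by
    have hle : A ⊔ B ≤ layer _ := sup_le (component_le_layer hJ.bar_comp) (component_le_layer hJ'.bar_comp)
    exact IsSubnormal.step _ _ hle layer_normal.isSubnormal ((normal_subgroupOf_iff_le_normalizer hle).2 hABn)
  have hnorm : ((Δ.subgroupOf ((A ⊔ B) ⊓ C))).Normal := by
    refine (normal_subgroupOf_iff_le_normalizer (le_inf hΔAB hΔC)).2 fun x hx => ?_
    obtain ⟨hxAB, hxC⟩ := hx
    obtain ⟨p, hp, q, hq, rfl⟩ := mem_sup_of_commute (A := A) (B := B)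
      (commutator_eq_bot_iff_le_centralizer.2 (le_centralizer_iff.1 hBA)) hxAB
    have hxC : p * q * s = s * (p * q) := mem_centralizer_singleton_iff.1 hxC
    refine mem_normalizer_fintype ?_
    rintro _ ⟨k, rfl⟩
    refine ⟨⟨p * k * p⁻¹, mul_mem (mul_mem hp k.2) (inv_mem hp)⟩, ?_⟩
    show p * k * p⁻¹ * (s * (p * k * p⁻¹) * s⁻¹) = p * q * (k * (s * k * s⁻¹)) * (p * q)⁻¹
    have hsx : (s * q * s⁻¹) * (s * p * s⁻¹) = p * q := by
      rw [hcomm _ (hsA q hq) _ (hsB p hp)]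
      calc s * p * s⁻¹ * (s * q * s⁻¹) = s * (p * q) * s⁻¹ := by group
        _ = _ := by rw [← hxC]; group
    set k' := s * (k : _) * s⁻¹ with hk'
    set w := q⁻¹ * (s * p * s⁻¹) with hw
    have hwB : w ∈ B := mul_mem (inv_mem hq) (hsB p hp)
    have hwA : w ∈ A := by
      rw [hw, show q⁻¹ * (s * p * s⁻¹) = p * (s * q * s⁻¹)⁻¹ from ?_]
      · exact mul_mem hp (inv_mem (hsA q hq))
      rw [eq_mul_inv_iff_mul_eq, mul_assoc, ← hcomm _ (hsA q hq) _ (hsB p hp), hsx,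
        hcomm p hp q hq, ← mul_assoc, inv_mul_cancel, one_mul]
    have hwk : w * k' = k' * w := hcomm w hwA k' (hsB _ k.2)
    calc p * k * p⁻¹ * (s * (p * k * p⁻¹) * s⁻¹)
        = p * k * p⁻¹ * ((s * p * s⁻¹) * k' * (s * p * s⁻¹)⁻¹) := by rw [hk']; group
      _ = p * k * p⁻¹ * (q * (w * k') * w⁻¹ * q⁻¹) := by rw [hw]; group
      _ = p * k * p⁻¹ * (q * k' * q⁻¹) := by rw [hwk]; group
      _ = p * (k * (p⁻¹ * q)) * (k' * q⁻¹) := by group
      _ = p * (k * (q * p⁻¹)) * (k' * q⁻¹) := by rw [hcomm _ (inv_mem hp) q hq]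
      _ = p * ((k : _) * q) * (p⁻¹ * (k' * q⁻¹)) := by group
      _ = p * (q * (k : _)) * ((k' * q⁻¹) * p⁻¹) := by
          rw [hcomm _ k.2 q hq, hcomm _ (inv_mem hp) _ (mul_mem (hsB _ k.2) (inv_mem hq))]
      _ = _ := by group
  have hs' : (Δ.subgroupOf C).IsSubnormal := by
    have h1 : ((A ⊔ B) ⊓ C).subgroupOf C |>.IsSubnormal := by
      rw [inf_subgroupOf_right]
      exact hABs.subgroupOf
    refine IsSubnormal.trans (K := ((A ⊔ B) ⊓ C).subgroupOf C) (fun x hx => ⟨hΔAB hx, x.2⟩) ?_ h1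
    exact hnorm.isSubnormal.comap (subgroupOfEquivOfLe (inf_le_right : (A ⊔ B) ⊓ C ≤ C)).toMonoidHom
  let r : ↥A →* ↥Δ := δ.rangeRestrict
  have hr : Function.Surjective r := δ.rangeRestrict_surjective
  have hker : δ.ker = center ↥A := by
    apply le_antisymm
    · intro k hk
      rw [MonoidHom.mem_ker] at hk
      have hkB : (k : ↥(cz a) ⧸ oddCore ↥(cz a)) ∈ B := by
        rw [eq_inv_of_mul_eq_one_left hk]
        exact inv_mem (hsB _ k.2)
      exact mem_center_iff.2 fun y => Subtype.ext (mem_centralizer_iff.1 (hBA hkB) _ y.2)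
    · intro k hk
      rw [MonoidHom.mem_ker]
      show (k : _) * (s * k * s⁻¹) = 1
      rcases hJ.bar_centre k.2 (mem_centralizer_iff.2 fun y hy =>
          congrArg Subtype.val (mem_center_iff.1 hk ⟨y, hy⟩)) with e | e
      · rw [e]; simp
      · rw [e, hs, ← map_inv, ← map_mul, ← map_mul, ← map_mul]
        refine (congrArg _ (Subtype.ext ?_)).trans (map_one _)
        show a * (t * a * t⁻¹) = 1
        rw [cz_iff.1 ht, mul_inv_cancel_right, hJ.sq]
  have hindex : Nat.card ↥Δ * 2 = m := by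
    rw [hΔ, ← Subgroup.index_ker, hker, hJ.centre_index]
  haveI hnt : Nontrivial ↥Δ := by
    rw [← Finite.one_lt_card_iff_nontrivial]
    obtain ⟨c, hc⟩ := hJ.four_dvd
    have : 0 < m := hJ.bar_card ▸ Nat.card_pos
    omega
  have hqs : IsQuasisimple ↥Δ := quasisimple_of_surjective hJ.bar_comp.2 r hr
  have hcen : center ↥Δ = ⊥ := by
    rcases quasisimple_normal hJ.bar_comp.2 ((center ↥Δ).comap r) with h | h
    · exact absurd (by rw [← map_comap_eq_self_of_surjective hr (center ↥Δ), h, map_top_of_surjective r hr])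
        (quasisimple_center_ne_top hqs)
    · rw [← map_comap_eq_self_of_surjective hr (center ↥Δ), Subgroup.map_eq_bot_iff]
      rwa [MonoidHom.ker_rangeRestrict, hker]
  have hodd : ∀ N : Subgroup ↥Δ, N.Normal → (Nat.card N).Coprime 2 → N = ⊥ := by
    intro N hN hodd
    haveI := hN
    rcases quasisimple_normal hqs N with h | h
    · exfalso
      rw [h, card_top] at hodd
      obtain ⟨c, hc⟩ := hJ.four_dvd
      exact Nat.prime_two.coprime_iff_not_dvd.1 hodd.symm ⟨c, by omega⟩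
    · exact le_bot_iff.1 (hcen ▸ h)
  have hgen : Δ ≤ pGen 2 Δ := by
    rintro _ ⟨k, rfl⟩
    have h1 : pGen 2 (⊤ : Subgroup ↥A) = ⊤ := by
      rw [eq_top_iff]
      have := le_pGen_comap A.subtype A.subtype_injective (K := A) (by rw [range_subtype]) hJ.bar_gen
      rwa [show A.comap A.subtype = ⊤ from subgroupOf_self A] at this
    have h2 := map_pGen_le (p := 2) δ (⊤ : Subgroup ↥A)
    rw [h1, ← MonoidHom.range_eq_map] at h2
    exact h2 ⟨k, rfl⟩
  obtain ⟨D, hD⟩ := exists_cov (z := a) (t := t) ht ⟨1, by rw [pow_one, pow_two, ht2]⟩ Δ hΔC hs' hqs hgen hodd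
  refine ⟨D, Δ, hD, hqs, by rw [hcen, index_bot, hindex], ?_, fun k hk => ⟨⟨k, hk⟩, rfl⟩,
    fun e he h2 h3 => ?_, fun x hx => ?_⟩
  · rintro _ ⟨k, rfl⟩
    exact ⟨k, k.2, rfl⟩
  · have hec : e ∈ cz a := hJ.le he
    refine hD.contains _ (mul_mem hec (mul_mem (mul_mem ht hec) (inv_mem ht))) (cz_iff.2 h3) h2
      ⟨⟨qz a ⟨e, hec⟩, mem_map_of_mem _ he⟩, ?_⟩
    show qz a ⟨e, hec⟩ * (s * qz a ⟨e, hec⟩ * s⁻¹) = qz a (⟨e, hec⟩ * (⟨t, ht⟩ * ⟨e, hec⟩ * ⟨t, ht⟩⁻¹))
    rw [hs, ← map_inv, ← map_mul, ← map_mul, ← map_mul]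
  · have hxa : x ∈ cz a := (hD.comp.le hx).1
    refine hJ.normalizer_of_bar hxa ?_
    refine (sup_le (a := A) (b := B) le_normalizer ?_) (hΔAB (hD.maps x hxa hx))
    exact (hBA.trans (centralizer_le_normalizer _))

end Cfsg.Agent.Intrinsic
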