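import Cfsg.Agent.Lib.Intrinsic.Tools

/-!
Consequences of Glauberman's theorem for an involution acting on an intrinsic 2-component, and for an element
of order four of one.
-/

set_option autoImplicit false
set_option linter.style.haveILetI false
set_option linter.unusedSectionVars false

namespace Cfsg.Agent.Intrinsic

set_option synthInstance.maxHeartbeats 200000

open Subgroup Cfsg Cfsg.Agent.Components Cfsg.Agent.BpBalance
open scoped commutatorElement

universe u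

variable {G : Type u} [Group G] [Finite G] {m : ℕ} {K : Subgroup G} {z : G}

/-- An involution normalizing but not centralizing `K` sends some element of `K` to its product with `z`. -/
theorem Intr.zlemma (hK : Intr m K z) {w : G} (hw2 : w * w = 1) (hn : w ∈ normalizer (K : Set G))
    (hc : w ∉ ctr z K) : ∃ k ∈ bar z K, qt z w * k * (qt z w)⁻¹ = qt z z * k := by
  haveI : Fact (Nat.Prime 2) := ⟨Nat.prime_two⟩
  have hw : w ∈ cz z := cz_iff.2 (hK.cz_of_normalizer hn)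
  set A := bar z K with hA
  set s := qt z w with hs
  have hs2 : s * s = 1 := by rw [hs, ← qt_mul hw hw, hw2, qt_one]
  have hsi : s⁻¹ = s := inv_eq_of_mul_eq_one_right hs2
  have hnA : ∀ k ∈ A, s * k * s⁻¹ ∈ A := by
    intro k hk
    obtain ⟨x, hx, hxz, rfl⟩ := exists_of_bar hk
    rw [hs, ← qt_conj hw hxz]
    exact qt_mem_bar (mul_mem (mul_mem hw hxz) (inv_mem hw)) ((mem_normalizer_iff.1 hn x).1 hx)
  have hs1 : s ≠ 1 := fun h => hc (mem_ctr_qt.2 ⟨hw, fun d _ => by rw [← hs, h, one_mul, mul_one]⟩)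
  have key : ∃ k ∈ A, Commute s (k * s * k⁻¹) ∧ k * s * k⁻¹ ≠ s := by
    by_contra hcon
    push Not at hcon
    set X := A ⊔ zpowers s with hX
    have hsX : s ∈ X := mem_sup_right (mem_zpowers s)
    have hsN : zpowers s ≤ normalizer (A : Set _) := zpowers_le.2 (mem_normalizer_fintype hnA)
    have hiso : IsIsolated (⟨s, hsX⟩ : ↥X) := by
      rintro ⟨g, hg⟩ hcomm
      obtain ⟨a, ha, b, hb, hab⟩ := (Cfsg.Agent.SolvBasic.mem_sup_iff_of_le_normalizer hsN).1 hg
      obtain ⟨i, rfl⟩ := hb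
      have e : g * s * g⁻¹ = a * s * a⁻¹ := by
        rw [hab]
        show a * s ^ i * s * (a * s ^ i)⁻¹ = _
        calc a * s ^ i * s * (a * s ^ i)⁻¹ = a * (s ^ i * s * (s ^ i)⁻¹) * a⁻¹ := by group
          _ = _ := by rw [← zpow_add_one, add_comm i, zpow_one_add, mul_inv_cancel_right]
      refine Subtype.ext ?_
      show g * s * g⁻¹ = s
      rw [e]
      refine hcon a ha ?_
      rw [← e]
      exact congrArg Subtype.val hcomm
    have hZ := BrauerSuzuki.zStar ↥X ⟨s, hsX⟩ (by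
      rw [Subgroup.orderOf_mk]
      exact orderOf_eq_prime (by rw [pow_two, hs2]) hs1) hiso
    set O := (pPrimeCore 2 ↥X).map X.subtype with hO
    haveI hOn : (O.subgroupOf A).Normal := ⟨fun o ho a => by
      rw [mem_subgroupOf] at ho ⊢
      obtain ⟨x, hx, e⟩ := ho
      refine ⟨⟨(a : _), mem_sup_left a.2⟩ * x * ⟨(a : _), mem_sup_left a.2⟩⁻¹,
        (FittingCores.pPrimeCore_normal (G := ↥X) 2).conj_mem x hx _, ?_⟩
      simp only [Subgroup.coe_subtype] at e
      simp [e]⟩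
    have hodd : (Nat.card (O.subgroupOf A)).Coprime 2 := by
      refine (FittingCores.pPrimeCore_coprime (G := ↥X) 2).coprime_dvd_left ?_
      rw [Nat.card_congr (equivMapOfInjective (O.subgroupOf A) A.subtype A.subtype_injective).toEquiv,
        Nat.card_congr (equivMapOfInjective (pPrimeCore 2 ↥X) X.subtype X.subtype_injective).toEquiv, ← hO]
      exact card_dvd_of_le (by rintro _ ⟨x, hx, rfl⟩; exact hx)
    refine hc (mem_ctr_qt.2 ⟨hw, fun k hk => ?_⟩)
    have h1 : k * s * k⁻¹ * s⁻¹ ∈ O := ⟨_, hZ ⟨k, mem_sup_left hk⟩, rfl⟩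
    have h2 : k * s * k⁻¹ * s⁻¹ ∈ A := by
      have := mul_mem hk (hnA _ (inv_mem hk))
      rwa [← mul_assoc, ← mul_assoc] at this
    have h3 : (⟨_, h2⟩ : ↥A) ∈ O.subgroupOf A := h1
    rw [hK.bar_odd _ hOn hodd, mem_bot] at h3
    have h4 : k * s * k⁻¹ * s⁻¹ = 1 := congrArg Subtype.val h3
    rw [← hs]
    exact (mul_inv_eq_iff_eq_mul.1 (mul_inv_eq_one.1 h4)).symm
  obtain ⟨k, hk, hcomm, hne⟩ := key
  refine ⟨k, hk, ?_⟩
  set t := k * s * k⁻¹ with ht
  have ht2 : t * t = 1 := by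
    rw [ht, show k * s * k⁻¹ * (k * s * k⁻¹) = k * (s * s) * k⁻¹ by group, hs2]
    group
  have hmem : t * s⁻¹ ∈ A := by
    have := mul_mem hk (hnA _ (inv_mem hk))
    rwa [← mul_assoc, ← mul_assoc] at this
  have hsq : t * s⁻¹ * (t * s⁻¹) = 1 := by
    rw [hsi]
    calc t * s * (t * s) = t * (s * t) * s := by group
      _ = t * (t * s) * s := by rw [hcomm.eq]
      _ = _ := by rw [← mul_assoc, ht2, one_mul, hs2]
  rcases hK.bar_invol hmem hsq with h | h
  · exact absurd (mul_inv_eq_one.1 h) hne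
  · have e : k * s * k⁻¹ = qt z z * s := mul_inv_eq_iff_eq_mul.1 h
    have e2 : k * s = qt z z * s * k := mul_inv_eq_iff_eq_mul.1 e
    have e3 : s * k = qt z z * (k * s) := by
      rw [e2, ← mul_assoc, ← mul_assoc, hK.qt_z_sq, one_mul]
    rw [hsi, e3, mul_assoc, mul_assoc, hs2, mul_one]

/-- An element of order four of `K` is inverted modulo the core by one of its conjugates. -/
theorem Intr.quat (hK : Intr m K z) {y : G} (hy : y ∈ K) (hy2 : y * y = z) :
    ∃ g ∈ bar z K, qt z y * (g * qt z y * g⁻¹) * (qt z y)⁻¹ = qt z z * (g * qt z y * g⁻¹) := by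
  haveI : Fact (Nat.Prime 2) := ⟨Nat.prime_two⟩
  set A := bar z K with hA
  set Z := center ↥A with hZdef
  have hyz : y ∈ cz z := hK.le hy
  have hyA : qt z y ∈ A := qt_mem_bar hyz hy
  set yb : ↥A := ⟨_, hyA⟩ with hyb
  have hzA : qt z z ∈ A := qt_mem_bar hK.z_mem_cz hK.mem
  have hzc : qt z z ∈ centralizer (A : Set _) := mem_centralizer_iff.2 fun d hd => by
    obtain ⟨x, hx, hxz, rfl⟩ := exists_of_bar hd
    exact (hK.qt_z_comm hxz).symm
  have hZmem : ∀ c : ↥A, c ∈ Z → (c : ↥(cz z) ⧸ oddCore ↥(cz z)) = 1 ∨ (c : _) = qt z z := by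
    intro c hc
    rw [qt_of hK.z_mem_cz]
    exact hK.bar_centre c.2 (mem_centralizer_iff.2 fun d hd => congrArg Subtype.val (mem_center_iff.1 hc ⟨d, hd⟩))
  have hy4 : yb * yb ∈ Z := by
    refine mem_center_iff.2 fun d => Subtype.ext ?_
    show (d : _) * (qt z y * qt z y) = qt z y * qt z y * d
    rw [← qt_mul hyz hyz, hy2]
    exact mem_centralizer_iff.1 hzc d d.2
  have hyZ : yb ∉ Z := by
    intro h
    have h4 : IsTwo y := ⟨2, by rw [show (2 : ℕ) ^ 2 = 2 + 2 by norm_num, pow_add, pow_two, hy2, hK.sq]⟩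
    rcases hK.ctr_self hy h4 (mem_ctr_qt.2 ⟨hyz, fun d hd =>
      (congrArg Subtype.val (mem_center_iff.1 h ⟨d, hd⟩)).symm⟩) with e | e
    · exact hK.ne_one' (by rw [← hy2, e, one_mul])
    · exact hK.ne_one' (by rw [← hy2, e, hK.sq])
  set π := QuotientGroup.mk' Z with hπ
  have key : ∃ g : ↥A, Commute (π yb) (π g * π yb * (π g)⁻¹) ∧ π g * π yb * (π g)⁻¹ ≠ π yb := by
    by_contra hcon
    push Not at hcon
    have hiso : IsIsolated (π yb) := fun g hg => by
      obtain ⟨g, rfl⟩ := QuotientGroup.mk'_surjective Z g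
      exact hcon g hg
    have h2 : orderOf (π yb) = 2 := by
      refine orderOf_eq_prime ?_ fun h => hyZ ((QuotientGroup.eq_one_iff _).1 h)
      rw [pow_two, ← map_mul]
      exact (QuotientGroup.eq_one_iff _).2 hy4
    have hin := BrauerSuzuki.zStar _ (π yb) h2 hiso
    have hO : pPrimeCore 2 (↥A ⧸ Z) = ⊥ := by
      haveI := FittingCores.pPrimeCore_normal (G := ↥A ⧸ Z) 2
      have hodd := FittingCores.pPrimeCore_coprime (G := ↥A ⧸ Z) 2
      rcases quasisimple_normal hK.bar_comp.2 ((pPrimeCore 2 (↥A ⧸ Z)).comap π) with h | h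
      · exfalso
        have htop : pPrimeCore 2 (↥A ⧸ Z) = ⊤ := by
          rw [← map_comap_eq_self_of_surjective (QuotientGroup.mk'_surjective Z) (pPrimeCore 2 (↥A ⧸ Z)), h,
            map_top_of_surjective _ (QuotientGroup.mk'_surjective Z)]
        rw [htop, card_top] at hodd
        have h1 := hK.centre_index
        rw [← hA, Subgroup.index_eq_card, ← hZdef] at h1
        obtain ⟨c, hc⟩ := hK.four_dvd
        exact Nat.prime_two.coprime_iff_not_dvd.1 hodd.symm ⟨c, by omega⟩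
      · rw [← map_comap_eq_self_of_surjective (QuotientGroup.mk'_surjective Z) (pPrimeCore 2 (↥A ⧸ Z))]
        refine (Subgroup.map_eq_bot_iff _).2 (h.trans ?_)
        rw [QuotientGroup.ker_mk']
    have hcen : π yb ∈ center (↥A ⧸ Z) := mem_center_iff.2 fun g => by
      have := hin g
      rw [hO, mem_bot, mul_inv_eq_one, mul_inv_eq_iff_eq_mul] at this
      exact this
    rcases quasisimple_normal hK.bar_comp.2 ((center (↥A ⧸ Z)).comap π) with h | h
    · haveI := hK.bar_comp.2.2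
      have hall : ∀ a b : ↥A ⧸ Z, a * b = b * a := fun a b => by
        obtain ⟨b, rfl⟩ := QuotientGroup.mk'_surjective Z b
        exact mem_center_iff.1 (show b ∈ (center (↥A ⧸ Z)).comap π by rw [h]; exact mem_top b) a
      haveI := hK.bar_comp.2.1
      have hle : (⊤ : Subgroup ↥A) ≤ Z := by
        rw [← Group.IsPerfect.commutator_eq_top (G := ↥A), commutator_def, commutator_le]
        intro a _ b _
        refine (QuotientGroup.eq_one_iff _).1 ?_
        exact (map_commutatorElement π a b).trans (commutatorElement_eq_one_iff_mul_comm.2 (hall _ _))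
      exact quasisimple_center_ne_top hK.bar_comp.2 (top_le_iff.1 hle)
    · exact hyZ (h hcen)
  obtain ⟨g, hcomm, hne⟩ := key
  refine ⟨g, g.2, ?_⟩
  set f : ↥A := g * yb * g⁻¹ with hf
  have hπf : π f = π g * π yb * (π g)⁻¹ := by rw [hf, map_mul, map_mul, map_inv]
  rw [← hπf] at hcomm hne
  have hc : yb * f * yb⁻¹ * f⁻¹ ∈ Z := by
    refine (QuotientGroup.eq_one_iff _).1 ?_
    show π (yb * f * yb⁻¹ * f⁻¹) = 1
    rw [map_mul, map_mul, map_mul, map_inv, map_inv, hcomm.eq]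
    group
  show qt z y * (f : ↥(cz z) ⧸ oddCore ↥(cz z)) * (qt z y)⁻¹ = qt z z * (f : ↥(cz z) ⧸ oddCore ↥(cz z))
  rcases hZmem _ hc with e | e
  · exfalso
    apply hne
    have e' : qt z y * (f : ↥(cz z) ⧸ oddCore ↥(cz z)) * (qt z y)⁻¹ * (f : ↥(cz z) ⧸ oddCore ↥(cz z))⁻¹ = 1 := e
    rw [mul_inv_eq_one, mul_inv_eq_iff_eq_mul] at e'
    have hff : (f : ↥(cz z) ⧸ oddCore ↥(cz z)) * f = qt z y * qt z y := by
      show (g : ↥(cz z) ⧸ oddCore ↥(cz z)) * qt z y * (g : ↥(cz z) ⧸ oddCore ↥(cz z))⁻¹ * ((g : ↥(cz z) ⧸ oddCore ↥(cz z)) * qt z y * (g : ↥(cz z) ⧸ oddCore ↥(cz z))⁻¹) = _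
      rw [show (g : ↥(cz z) ⧸ oddCore ↥(cz z)) * qt z y * (g : ↥(cz z) ⧸ oddCore ↥(cz z))⁻¹ * ((g : ↥(cz z) ⧸ oddCore ↥(cz z)) * qt z y * (g : ↥(cz z) ⧸ oddCore ↥(cz z))⁻¹)
          = (g : ↥(cz z) ⧸ oddCore ↥(cz z)) * (qt z y * qt z y) * (g : ↥(cz z) ⧸ oddCore ↥(cz z))⁻¹ by group, ← qt_mul hyz hyz, hy2,
        mem_centralizer_iff.1 hzc g g.2, mul_inv_cancel_right]
    have hq : (f : ↥(cz z) ⧸ oddCore ↥(cz z)) * (qt z y)⁻¹ * ((f : ↥(cz z) ⧸ oddCore ↥(cz z)) * (qt z y)⁻¹) = 1 := by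
      have hcm : Commute (f : ↥(cz z) ⧸ oddCore ↥(cz z)) (qt z y) := e'.symm
      rw [← pow_two, (hcm.inv_right).mul_pow, pow_two, pow_two, hff]
      group
    have hin : f * yb⁻¹ ∈ Z := by
      refine mem_center_iff.2 fun d => Subtype.ext ?_
      show (d : _) * ((f : ↥(cz z) ⧸ oddCore ↥(cz z)) * (qt z y)⁻¹) = (f : ↥(cz z) ⧸ oddCore ↥(cz z)) * (qt z y)⁻¹ * d
      rcases hK.bar_invol (mul_mem f.2 (inv_mem hyA)) hq with h | h <;> rw [h]
      · simp
      · exact mem_centralizer_iff.1 hzc d d.2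
    have := (QuotientGroup.eq_one_iff (N := Z) _).2 hin
    rw [← mul_inv_eq_one, ← map_inv, ← map_mul]
    exact this
  · have e' : qt z y * (f : ↥(cz z) ⧸ oddCore ↥(cz z)) * (qt z y)⁻¹ * (f : ↥(cz z) ⧸ oddCore ↥(cz z))⁻¹ = qt z z := e
    exact mul_inv_eq_iff_eq_mul.1 e'

/-- The diagonal component of an involution moving `J` centralizes the component of that involution. -/
theorem diag_ctr {J : Subgroup G} {a b : G} {D : Subgroup G} {Δ : Subgroup (↥(cz a) ⧸ oddCore ↥(cz a))}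
    (hJ : Intr m J a) (hK : Intr m K b) (hD : Cov a b D Δ) (hqs : IsQuasisimple ↥Δ)
    (hm : (center ↥Δ).index * 2 = m) (hn : a ∈ normalizer (K : Set G)) (hc : a ∉ ctr b K) :
    D ≤ ctr b K := by
  have hab : a ∈ cz b := cz_iff.2 (hK.cz_of_normalizer hn)
  rcases hD.cases hqs hab (IsTwo.of_orderOf hJ.ord) hK hm with h | ⟨-, h⟩
  · exact h
  · refine absurd (hK.ctr_of_central hab hJ.sq fun k hk => ?_) hc
    obtain ⟨d, hd, hdc⟩ := h k hk
    have had : a * d * a⁻¹ = d := mul_inv_eq_iff_eq_mul.2 (cz_iff.1 (hD.comp.le hd).1).symm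
    have h1 := mul_mem hdc (hK.ctr_conj_mem hn (inv_mem hdc))
    rwa [show k⁻¹ * d * (a * (k⁻¹ * d)⁻¹ * a⁻¹) = k⁻¹ * (a * k * a⁻¹) from ?_] at h1
    calc k⁻¹ * d * (a * (k⁻¹ * d)⁻¹ * a⁻¹) = k⁻¹ * d * (a * d * a⁻¹)⁻¹ * (a * k * a⁻¹) := by group
      _ = _ := by rw [had]; group

end Cfsg.Agent.Intrinsic
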